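import Mathlib

/-!
# An upper bound for the order of a centralizer from conjugates inside a point stabilizer (helper92)

If `n` elements `h` of a finite group `G` acting on `X` give pairwise different conjugates `h⁻¹ z h`, all
fixing the point `x0`, then `n * |C_G(z)| ≤ |Fix(z)| * |G_{x0}|`.
-/

set_option autoImplicit false

namespace Cfsg.Agent.Lib.Helper92.HC

open Classical in
theorem centralizer_card_mul_le {G X : Type*} [Group G] [Finite G] [MulAction G X] (z : G) (x0 : X)
    (L : List G) (hfix : ∀ h ∈ L, z • (h • x0) = h • x0)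
    (hnd : (L.map (fun h => h⁻¹ * z * h)).Nodup)
    (F : Finset X) (hF : ∀ x, z • x = x → x ∈ F) :
    L.length * Nat.card (Subgroup.centralizer {z}) ≤ F.card * Nat.card (MulAction.stabilizer G x0) := by
  set C := Subgroup.centralizer ({z} : Set G) with hC
  set S := MulAction.stabilizer G x0 with hS
  have hcomm : ∀ c ∈ C, c * z = z * c := by
    intro c hc
    have := Subgroup.mem_centralizer_iff.mp hc z (Set.mem_singleton z)
    exact this.symm
  -- the set `Q`
  let Q : Type _ := {g : G // z • (g • x0) = g • x0}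
  -- first injection
  let φ : Fin L.length × C → Q := fun p =>
    ⟨p.2.1 * L.get p.1, by
      have h1 := hfix (L.get p.1) (List.get_mem L p.1)
      have hc := hcomm p.2.1 p.2.2
      rw [mul_smul, ← mul_smul z, ← hc, mul_smul, h1]⟩
  have hφ : Function.Injective φ := by
    rintro ⟨i, c⟩ ⟨j, c'⟩ h
    have h0 : c.1 * L.get i = c'.1 * L.get j := congrArg Subtype.val h
    have hconj : (L.get i)⁻¹ * z * L.get i = (L.get j)⁻¹ * z * L.get j := by
      have e1 : (c.1 * L.get i)⁻¹ * z * (c.1 * L.get i) = (L.get i)⁻¹ * z * L.get i := by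
        have hc := hcomm c.1 c.2
        calc (c.1 * L.get i)⁻¹ * z * (c.1 * L.get i)
            = (L.get i)⁻¹ * (c.1⁻¹ * (z * c.1)) * L.get i := by group
          _ = (L.get i)⁻¹ * (c.1⁻¹ * (c.1 * z)) * L.get i := by rw [hc]
          _ = (L.get i)⁻¹ * z * L.get i := by group
      have e2 : (c'.1 * L.get j)⁻¹ * z * (c'.1 * L.get j) = (L.get j)⁻¹ * z * L.get j := by
        have hc := hcomm c'.1 c'.2
        calc (c'.1 * L.get j)⁻¹ * z * (c'.1 * L.get j)
            = (L.get j)⁻¹ * (c'.1⁻¹ * (z * c'.1)) * L.get j := by group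
          _ = (L.get j)⁻¹ * (c'.1⁻¹ * (c'.1 * z)) * L.get j := by rw [hc]
          _ = (L.get j)⁻¹ * z * L.get j := by group
      rw [← e1, ← e2, h0]
    have hij : i = j := by
      have hinj := List.nodup_iff_injective_get.mp hnd
      have hlen : (L.map (fun h => h⁻¹ * z * h)).length = L.length := List.length_map _
      have : (L.map (fun h => h⁻¹ * z * h)).get (Fin.cast hlen.symm i) =
          (L.map (fun h => h⁻¹ * z * h)).get (Fin.cast hlen.symm j) := by
        simp only [List.get_eq_getElem, List.getElem_map, Fin.val_cast]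
        simpa [List.get_eq_getElem] using hconj
      have := hinj this
      exact Fin.ext (by simpa using congrArg Fin.val this)
    subst hij
    have : c.1 = c'.1 := mul_right_cancel h0
    exact Prod.ext rfl (Subtype.ext this)
  -- second injection
  let t : X → G := fun y => if h : ∃ g : G, g • x0 = y then h.choose else 1
  have ht : ∀ g : G, t (g • x0) • x0 = g • x0 := by
    intro g
    have h : ∃ g' : G, g' • x0 = g • x0 := ⟨g, rfl⟩
    show (if h : ∃ g' : G, g' • x0 = g • x0 then h.choose else 1) • x0 = g • x0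
    rw [dif_pos h]
    exact h.choose_spec
  let ψ : Q → F × S := fun q =>
    (⟨q.1 • x0, hF _ q.2⟩, ⟨(t (q.1 • x0))⁻¹ * q.1, by
      show ((t (q.1 • x0))⁻¹ * q.1) • x0 = x0
      rw [mul_smul, inv_smul_eq_iff, ht]⟩)
  have hψ : Function.Injective ψ := by
    rintro ⟨g, hg⟩ ⟨g', hg'⟩ h
    have h1 : g • x0 = g' • x0 := congrArg (fun p => (p.1 : X)) h
    have h2 : (t (g • x0))⁻¹ * g = (t (g' • x0))⁻¹ * g' := congrArg (fun p => (p.2 : G)) h
    rw [h1] at h2
    exact Subtype.ext (mul_left_cancel h2)
  have hfinQ : Finite Q := Subtype.finite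
  have c1 : Nat.card (Fin L.length × C) ≤ Nat.card Q := Nat.card_le_card_of_injective φ hφ
  have c2 : Nat.card Q ≤ Nat.card (F × S) := Nat.card_le_card_of_injective ψ hψ
  rw [Nat.card_prod, Nat.card_fin] at c1
  rw [Nat.card_prod] at c2
  have hFc : Nat.card ↥F = F.card := by
    rw [Nat.card_eq_fintype_card, Fintype.card_coe]
  rw [hFc] at c2
  exact c1.trans c2

end Cfsg.Agent.Lib.Helper92.HC
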