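import Cfsg.Agent.Lib.Helper92.HC.Cls0
import Cfsg.Agent.Lib.Helper92.HC.ClassCount
import Cfsg.Agent.Lib.Helper92.He.S44Main

/-!
# The centralizer of the involution `e` of the presented Held group has at most 21504 elements (helper92)

3825 conjugates of `e` fix the point `0`, and `e` fixes 42 of the 2058 points, so
`3825 · |C(e)| ≤ 42 · 1958400`.
-/

set_option autoImplicit false

namespace Cfsg.Agent.Lib.Helper92.HC
open Cfsg.Agent.Lib.Helper92.VecPerm
open Cfsg.Agent.Lib.Helper92.He (HG phi evW nets netsOK psi phi_evW smul_val card_HG trans0)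
open Cfsg.Agent.Lib.Helper92.He.S44 (evW_cons evW_append evW_reverse finite_HG S0 card_S0)

/-- the conjugating words -/
def clsW : List (List ℕ) := Cls.w0 ++ Cls.w1 ++ Cls.w2 ++ Cls.w3 ++ Cls.w4 ++ Cls.w5 ++ Cls.w6 ++ Cls.w7 ++ Cls.w8 ++ Cls.w9 ++ Cls.w10 ++ Cls.w11 ++ Cls.w12 ++ Cls.w13 ++ Cls.w14

/-- their fingerprints -/
def clsC : List ℕ := Cls.c0 ++ Cls.c1 ++ Cls.c2 ++ Cls.c3 ++ Cls.c4 ++ Cls.c5 ++ Cls.c6 ++ Cls.c7 ++ Cls.c8 ++ Cls.c9 ++ Cls.c10 ++ Cls.c11 ++ Cls.c12 ++ Cls.c13 ++ Cls.c14

theorem clsW_fp : clsW.map fpCode = clsC := by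
  simp only [clsW, clsC, List.map_append, Cls.chk0, Cls.chk1, Cls.chk2, Cls.chk3, Cls.chk4, Cls.chk5, Cls.chk6, Cls.chk7, Cls.chk8, Cls.chk9, Cls.chk10, Cls.chk11, Cls.chk12, Cls.chk13, Cls.chk14]

/-- strictly increasing from `a` -/
def incB : ℕ → List ℕ → Bool
  | _, [] => true
  | a, b :: l => Nat.blt a b && incB b l

theorem incB_spec : ∀ (l : List ℕ) (a : ℕ), incB a l = true → (∀ x ∈ l, a < x) ∧ l.Pairwise (· < ·) := by
  intro l
  induction l with
  | nil => intro a _; exact ⟨by simp, List.Pairwise.nil⟩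
  | cons b l ih =>
    intro a h
    rw [incB, Bool.and_eq_true] at h
    have hab : a < b := by
      have := h.1
      rwa [Nat.blt_eq] at this
    obtain ⟨h1, h2⟩ := ih b h.2
    refine ⟨?_, List.Pairwise.cons h1 h2⟩
    intro x hx
    rcases List.mem_cons.mp hx with rfl | hx
    · exact hab
    · exact hab.trans (h1 x hx)

set_option maxRecDepth 100000 in
theorem clsC_inc : incB 0 clsC = true := by decide +kernel

set_option maxRecDepth 100000 in
theorem clsC_len : clsC.length = 3825 := by decide +kernel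

theorem clsW_len : clsW.length = 3825 := by
  rw [← clsC_len, ← clsW_fp, List.length_map]

theorem fp_pos (u : List ℕ) (hu : u ∈ clsW) : 0 < fpCode u := by
  have h1 : fpCode u ∈ clsC := by
    rw [← clsW_fp]; exact List.mem_map_of_mem hu
  exact (incB_spec clsC 0 clsC_inc).1 _ h1

theorem fp_nodup : (clsW.map fpCode).Nodup := by
  rw [clsW_fp]
  exact ((incB_spec clsC 0 clsC_inc).2).imp (fun h => Nat.ne_of_lt h)

theorem conjW_lt (u : List ℕ) (hu : ∀ x ∈ u, x < 7) : ∀ x ∈ conjW u, x < 7 := by
  intro x hx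
  unfold conjW at hx
  rw [List.mem_append, List.mem_reverse, List.mem_cons] at hx
  rcases hx with h | rfl | h
  · exact hu x h
  · norm_num
  · exact hu x h

/-- the fingerprint of an element of the group -/
noncomputable def fpG (g : HG) : ℕ :=
  if phi g 0 = 0 then 1 + (phi g 1 + 4096 * (phi g 15 + 4096 * phi g 34)) else 0

theorem fp_spec (u : List ℕ) (hu : 0 < fpCode u) :
    (∀ x ∈ u, x < 7) ∧ phi (evW (conjW u)) 0 = 0 ∧ fpCode u = fpG (evW (conjW u)) := by
  unfold fpCode at hu
  cases hb : (u.all (fun x => Nat.blt x 7) && Nat.beq (wordL (conjW u) 0) 0) with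
  | false => rw [hb] at hu; simp at hu
  | true =>
    have hb0 := hb
    rw [Bool.and_eq_true] at hb
    have h7 : ∀ x ∈ u, x < 7 := by
      intro x hx
      have := List.all_eq_true.mp hb.1 x hx
      rwa [Nat.blt_eq] at this
    have h0 : wordL (conjW u) 0 = 0 := Nat.eq_of_beq_eq_true hb.2
    have hc := conjW_lt u h7
    have p0 : phi (evW (conjW u)) 0 = 0 := by rw [phi_evW_apply _ hc 0 (by norm_num), h0]
    refine ⟨h7, p0, ?_⟩
    unfold fpCode fpG
    rw [hb0, if_pos p0, phi_evW_apply _ hc 1 (by norm_num),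
      phi_evW_apply _ hc 15 (by norm_num), phi_evW_apply _ hc 34 (by norm_num)]
    rfl

theorem conj_eq (u : List ℕ) (hu : ∀ x ∈ u, x < 7) :
    (evW u)⁻¹ * He.lv 2 * evW u = evW (conjW u) := by
  unfold conjW
  rw [evW_append, evW_cons, evW_reverse u hu, mul_assoc]

/-- the fixed points of `e` -/
def fixL : List ℕ := (List.range 2058).filter (fun i => Nat.beq (lkp 2 i) i)

set_option maxRecDepth 100000 in
theorem fixL_len : fixL.length = 42 := by decide +kernel

/-- the fixed points of `e` as a set of points -/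
def fixF : Finset (Fin 2058) := (fixL.map (fun i => if h : i < 2058 then (⟨i, h⟩ : Fin 2058) else 0)).toFinset

theorem fixF_card : fixF.card ≤ 42 := by
  unfold fixF
  refine (List.toFinset_card_le _).trans ?_
  rw [List.length_map, fixL_len]

theorem mem_fixF (x : Fin 2058) (hx : He.lv 2 • x = x) : x ∈ fixF := by
  have h1 : phi (He.lv 2) x.val = x.val := by
    have := congrArg Fin.val hx
    rwa [smul_val] at this
  have h2 : He.lv 2 = evW [2] := by simp [evW]
  rw [h2, phi_evW_apply [2] (by simp) x.val x.isLt] at h1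
  have h3 : lkp 2 x.val = x.val := h1
  have h4 : x.val ∈ fixL := by
    unfold fixL
    rw [List.mem_filter]
    refine ⟨List.mem_range.mpr x.isLt, ?_⟩
    rw [h3]; exact Nat.beq_refl _
  unfold fixF
  rw [List.mem_toFinset, List.mem_map]
  exact ⟨x.val, h4, by rw [dif_pos x.isLt]⟩

/-- the centralizer of `e` has at most 21504 elements -/
theorem card_centralizer_le : Nat.card (Subgroup.centralizer ({He.lv 2} : Set HG)) ≤ 21504 := by
  have := finite_HG
  have hmem : ∀ u ∈ clsW, (∀ x ∈ u, x < 7) ∧ phi (evW (conjW u)) 0 = 0 ∧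
      fpCode u = fpG (evW (conjW u)) := fun u hu => fp_spec u (fp_pos u hu)
  have key := centralizer_card_mul_le (G := HG) (X := Fin 2058) (He.lv 2) 0 (clsW.map evW)
    (by
      intro h hh
      obtain ⟨u, hu, rfl⟩ := List.mem_map.mp hh
      obtain ⟨h7, p0, -⟩ := hmem u hu
      have e1 : evW (conjW u) • (0 : Fin 2058) = 0 := by
        apply Fin.ext
        rw [smul_val]; exact p0
      rw [← conj_eq u h7, mul_smul, mul_smul, inv_smul_eq_iff] at e1
      exact e1)
    (by
      rw [List.map_map]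
      have e2 : clsW.map ((fun h => h⁻¹ * He.lv 2 * h) ∘ evW) = clsW.map (fun u => evW (conjW u)) := by
        apply List.map_congr_left
        intro u hu
        exact conj_eq u (hmem u hu).1
      rw [e2]
      apply List.Nodup.of_map fpG
      rw [List.map_map]
      have e3 : clsW.map (fpG ∘ fun u => evW (conjW u)) = clsW.map fpCode := by
        apply List.map_congr_left
        intro u hu
        exact ((hmem u hu).2.2).symm
      rw [e3]
      exact fp_nodup)
    fixF mem_fixF
  rw [List.length_map, clsW_len] at key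
  have hS : Nat.card (MulAction.stabilizer HG (0 : Fin 2058)) = 1958400 := card_S0
  rw [hS] at key
  have := fixF_card
  have h2 : 3825 * Nat.card (Subgroup.centralizer ({He.lv 2} : Set HG)) ≤ 42 * 1958400 :=
    key.trans (Nat.mul_le_mul_right _ this)
  omega

end Cfsg.Agent.Lib.Helper92.HC
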