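import Cfsg.Agent.Lib.Helper92.HC.SLHom

/-!
# The centralizer of a transvection of `SL(5, 2)` (helper92)

The centralizer of the transvection `1 + E₀₁` has at most `16 · 14 · 12 · 8 = 21504` elements (an upper
stabilizer chain on the vectors `e₁, e₂, e₃, e₄`), hence is the image of the presented group `HC.PG`.
-/

set_option autoImplicit false

namespace Cfsg.Agent.Lib.Helper92.HC
open Cfsg.Agent.Lib.Helper92.TCert
open Cfsg.Agent.Lib.Helper92.PresGen

section ChainUpper
variable {G : Type*} [Group G] {X : Type*} [MulAction G X]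

/-- orbit-stabilizer upper bound -/
theorem card_le_mul_card_stabilizer [Finite G] (a : X) (A : Finset X) (hA : ∀ g : G, g • a ∈ A) :
    Nat.card G ≤ A.card * Nat.card (MulAction.stabilizer G a) := by
  have h1 := (MulAction.stabilizer G a).index_mul_card
  rw [MulAction.index_stabilizer] at h1
  rw [← h1]
  apply Nat.mul_le_mul_right
  have hsub : MulAction.orbit G a ⊆ (A : Set X) := by
    rintro _ ⟨g, rfl⟩
    exact hA g
  have := Set.ncard_le_ncard hsub A.finite_toSet
  rwa [Set.ncard_coe_finset] at this

/-- a four-level upper stabilizer chain -/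
theorem chain4_card_le [Finite G] (a b c d : X) (A B C D : Finset X)
    (hA : ∀ g : G, g • a ∈ A)
    (hB : ∀ g : G, g • a = a → g • b ∈ B)
    (hC : ∀ g : G, g • a = a → g • b = b → g • c ∈ C)
    (hD : ∀ g : G, g • a = a → g • b = b → g • c = c → g • d ∈ D)
    (hF : ∀ g : G, g • a = a → g • b = b → g • c = c → g • d = d → g = 1) :
    Nat.card G ≤ A.card * B.card * C.card * D.card := by
  have h1 := card_le_mul_card_stabilizer (G := G) a A hA
  have h2 : Nat.card (MulAction.stabilizer G a) ≤
      B.card * Nat.card (MulAction.stabilizer (MulAction.stabilizer G a) b) := by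
    apply card_le_mul_card_stabilizer (G := MulAction.stabilizer G a) b B
    rintro ⟨g, hg⟩
    exact hB g hg
  have h3 : Nat.card (MulAction.stabilizer (MulAction.stabilizer G a) b) ≤
      C.card * Nat.card (MulAction.stabilizer (MulAction.stabilizer (MulAction.stabilizer G a) b) c) := by
    apply card_le_mul_card_stabilizer (G := MulAction.stabilizer (MulAction.stabilizer G a) b) c C
    rintro ⟨⟨g, hg⟩, hg2⟩
    exact hC g hg hg2
  have h4 : Nat.card (MulAction.stabilizer (MulAction.stabilizer (MulAction.stabilizer G a) b) c) ≤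
      D.card * Nat.card (MulAction.stabilizer
        (MulAction.stabilizer (MulAction.stabilizer (MulAction.stabilizer G a) b) c) d) := by
    apply card_le_mul_card_stabilizer
      (G := MulAction.stabilizer (MulAction.stabilizer (MulAction.stabilizer G a) b) c) d D
    rintro ⟨⟨⟨g, hg⟩, hg2⟩, hg3⟩
    exact hD g hg hg2 hg3
  have h5 : Nat.card (MulAction.stabilizer
      (MulAction.stabilizer (MulAction.stabilizer (MulAction.stabilizer G a) b) c) d) = 1 := by
    rw [Nat.card_eq_one_iff_unique]
    refine ⟨⟨?_⟩, ⟨1⟩⟩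
    rintro ⟨⟨⟨⟨g, hg⟩, hg2⟩, hg3⟩, hg4⟩ ⟨⟨⟨⟨g', hg'⟩, hg2'⟩, hg3'⟩, hg4'⟩
    have e1 : g = 1 := hF g hg hg2 hg3 hg4
    have e2 : g' = 1 := hF g' hg' hg2' hg3' hg4'
    subst e1; subst e2; rfl
  rw [h5, mul_one] at h4
  calc Nat.card G ≤ A.card * Nat.card (MulAction.stabilizer G a) := h1
    _ ≤ A.card * (B.card * (C.card * D.card)) :=
        Nat.mul_le_mul_left _ (h2.trans (Nat.mul_le_mul_left _ (h3.trans (Nat.mul_le_mul_left _ h4))))
    _ = A.card * B.card * C.card * D.card := by ring

end ChainUpper

section Cent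

theorem cent_comm (s g : SL5) (hg : g ∈ Subgroup.centralizer ({s} : Set SL5)) (v : V5) :
    g • (s • v) = s • (g • v) := by
  have h := Subgroup.mem_centralizer_iff.mp hg s (Set.mem_singleton s)
  rw [← mul_smul, ← mul_smul, h]

theorem e_ne_zero (k : Fin 5) : e k ≠ 0 := by
  revert k; decide

theorem zmod2_eq_one : ∀ x : ZMod 2, x ≠ 0 → x = 1 := by decide

theorem not_mem_of_fixed (g : SL5) (L : List V5) (hL : ∀ w ∈ L, g • w = w) (x : V5)
    (hx : ∀ w ∈ L, x ≠ w) : g • x ∉ L := by
  intro hmem
  have h1 : g • (g • x) = g • x := hL _ hmem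
  exact hx _ hmem (MulAction.injective g h1).symm

/-- the four sets containing the orbits -/
def SA : Finset V5 := Finset.univ.filter (fun v => v 1 = 1)
/-- the four sets containing the orbits -/
def SB : Finset V5 := Finset.univ.filter (fun v => v 1 = 0 ∧ v ∉ [0, e 0])
/-- the four sets containing the orbits -/
def SC : Finset V5 := Finset.univ.filter (fun v => v 1 = 0 ∧ v ∉ [0, e 0, e 2, e 0 + e 2])
/-- the four sets containing the orbits -/
def SD : Finset V5 := Finset.univ.filter (fun v => v 1 = 0 ∧
  v ∉ [0, e 0, e 2, e 0 + e 2, e 3, e 0 + e 3, e 2 + e 3, e 0 + e 2 + e 3])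

set_option maxRecDepth 100000 in
theorem cSA : SA.card = 16 := by decide
set_option maxRecDepth 100000 in
theorem cSB : SB.card = 14 := by decide
set_option maxRecDepth 100000 in
theorem cSC : SC.card = 12 := by decide
set_option maxRecDepth 100000 in
theorem cSD : SD.card = 8 := by decide

theorem neB : ∀ w ∈ [0, e 0], e 2 ≠ w := by decide
theorem neC : ∀ w ∈ [0, e 0, e 2, e 0 + e 2], e 3 ≠ w := by decide
theorem neD : ∀ w ∈ [0, e 0, e 2, e 0 + e 2, e 3, e 0 + e 3, e 2 + e 3, e 0 + e 2 + e 3], e 4 ≠ w := by
  decide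

variable (s : SL5) (hs : (s : Matrix (Fin 5) (Fin 5) (ZMod 2)) = Matrix.transvection 0 1 1)
include hs

theorem s_smul (v : V5) : s • v = v + (v 1) • e 0 := by
  rw [Matrix.SpecialLinearGroup.smul_def, hs, Matrix.smul_eq_mulVec]
  funext i
  fin_cases i <;>
    simp [Matrix.transvection, Matrix.mulVec, dotProduct, Fin.sum_univ_five, Matrix.one_apply,
      Matrix.single_apply, e]

theorem cent_aux (g : SL5) (hg : g ∈ Subgroup.centralizer ({s} : Set SL5)) :
    g • e 0 = ((g • e 1) 1) • e 0 := by
  have h := cent_comm s g hg (e 1)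
  rw [s_smul s hs (e 1), s_smul s hs (g • e 1)] at h
  have h11 : (e 1 : V5) 1 = 1 := by decide
  rw [h11, one_smul, smul_add] at h
  exact add_left_cancel h

theorem cent_e1 (g : SL5) (hg : g ∈ Subgroup.centralizer ({s} : Set SL5)) : (g • e 1) 1 = 1 := by
  apply zmod2_eq_one
  intro h0
  have h := cent_aux s hs g hg
  rw [h0, zero_smul] at h
  have h2 : g • e 0 = g • (0 : V5) := by rw [h, smul_zero]
  exact e_ne_zero 0 (MulAction.injective g h2)

theorem cent_e0 (g : SL5) (hg : g ∈ Subgroup.centralizer ({s} : Set SL5)) : g • e 0 = e 0 := by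
  have h := cent_aux s hs g hg
  rw [cent_e1 s hs g hg, one_smul] at h
  exact h

theorem cent_row1 (g : SL5) (hg : g ∈ Subgroup.centralizer ({s} : Set SL5)) (v : V5) :
    (g • v) 1 = v 1 := by
  have h := cent_comm s g hg v
  rw [s_smul s hs v, s_smul s hs (g • v), smul_add, smul_comm g (v 1) (e 0), cent_e0 s hs g hg] at h
  have h2 := congrFun (add_left_cancel h) 0
  have h00 : (e 0 : V5) 0 = 1 := by decide
  simp only [Pi.smul_apply, smul_eq_mul, h00, mul_one] at h2
  exact h2.symm

theorem eq_one_of_fix (g : SL5) (h : ∀ j : Fin 5, g • e j = e j) : g = 1 := by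
  apply Subtype.ext
  ext i j
  have h1 := congrFun (h j) i
  rw [Matrix.SpecialLinearGroup.smul_def, Matrix.smul_eq_mulVec] at h1
  unfold e at h1
  rw [Matrix.mulVec_single_one] at h1
  simpa [Matrix.one_apply, Pi.single_apply, eq_comm] using h1

/-- the centralizer of the transvection has at most 21504 elements -/
theorem card_cent_le : Nat.card (Subgroup.centralizer ({s} : Set SL5)) ≤ 21504 := by
  have hsm : ∀ (g : Subgroup.centralizer ({s} : Set SL5)) (v : V5), g • v = g.1 • v := fun _ _ => rfl
  have key := chain4_card_le (G := Subgroup.centralizer ({s} : Set SL5)) (e 1) (e 2) (e 3) (e 4) SA SB SC SD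
    (by
      rintro ⟨g, hg⟩
      rw [hsm]
      simp only [SA, Finset.mem_filter, Finset.mem_univ, true_and]
      exact cent_e1 s hs g hg)
    (by
      rintro ⟨g, hg⟩ h1
      rw [hsm] at h1 ⊢
      simp only [SB, Finset.mem_filter, Finset.mem_univ, true_and]
      refine ⟨by rw [cent_row1 s hs g hg]; decide, ?_⟩
      apply not_mem_of_fixed g _ _ _ neB
      simp only [List.mem_cons, List.not_mem_nil, or_false]
      rintro w (rfl | rfl)
      · exact smul_zero g
      · exact cent_e0 s hs g hg)
    (by
      rintro ⟨g, hg⟩ h1 h2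
      rw [hsm] at h1 h2 ⊢
      simp only [SC, Finset.mem_filter, Finset.mem_univ, true_and]
      refine ⟨by rw [cent_row1 s hs g hg]; decide, ?_⟩
      apply not_mem_of_fixed g _ _ _ neC
      have h0 := cent_e0 s hs g hg
      simp only [List.mem_cons, List.not_mem_nil, or_false]
      rintro w (rfl | rfl | rfl | rfl)
      · exact smul_zero g
      · exact h0
      · exact h2
      · rw [smul_add, h0, h2])
    (by
      rintro ⟨g, hg⟩ h1 h2 h3
      rw [hsm] at h1 h2 h3 ⊢
      simp only [SD, Finset.mem_filter, Finset.mem_univ, true_and]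
      refine ⟨by rw [cent_row1 s hs g hg]; decide, ?_⟩
      apply not_mem_of_fixed g _ _ _ neD
      have h0 := cent_e0 s hs g hg
      simp only [List.mem_cons, List.not_mem_nil, or_false]
      rintro w (rfl | rfl | rfl | rfl | rfl | rfl | rfl | rfl)
      · exact smul_zero g
      · exact h0
      · exact h2
      · rw [smul_add, h0, h2]
      · exact h3
      · rw [smul_add, h0, h3]
      · rw [smul_add, h2, h3]
      · rw [smul_add, smul_add, h0, h2, h3])
    (by
      rintro ⟨g, hg⟩ h1 h2 h3 h4
      rw [hsm] at h1 h2 h3 h4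
      apply Subtype.ext
      show g = 1
      apply eq_one_of_fix s hs g
      have h0 := cent_e0 s hs g hg
      intro j
      fin_cases j
      · exact h0
      · exact h1
      · exact h2
      · exact h3
      · exact h4)
  rw [cSA, cSB, cSC, cSD] at key
  exact key

set_option maxRecDepth 100000 in
omit hs in
theorem mM_comm : ∀ x < 7, Matrix.transvection 0 1 1 * mM x = mM x * Matrix.transvection 0 1 1 := by decide

theorem mS_mem (x : ℕ) (hx : x < 7) : mS x ∈ Subgroup.centralizer ({s} : Set SL5) := by
  rw [Subgroup.mem_centralizer_iff]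
  intro h hh
  rw [Set.mem_singleton_iff] at hh
  subst hh
  apply Subtype.ext
  rw [Matrix.SpecialLinearGroup.coe_mul, Matrix.SpecialLinearGroup.coe_mul, hs, mS_val]
  exact mM_comm x hx

theorem range_le : psi2.range ≤ Subgroup.centralizer ({s} : Set SL5) := by
  rw [MonoidHom.range_eq_map, ← PresentedGroup.closure_range_of, MonoidHom.map_closure, Subgroup.closure_le]
  rintro _ ⟨_, ⟨i, rfl⟩, rfl⟩
  have e : psi2 (PresentedGroup.of i) = fS i := PresentedGroup.toGroup.of _
  rw [e]
  exact mS_mem s hs i.val i.isLt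

theorem range_eq : psi2.range = Subgroup.centralizer ({s} : Set SL5) := by
  have hfin : Finite (Subgroup.centralizer ({s} : Set SL5)) := inferInstance
  apply Subgroup.eq_of_le_of_card_ge (range_le s hs)
  have h1 : Nat.card psi2.range = Nat.card PG :=
    (Nat.card_congr (MonoidHom.ofInjective psi2_injective).toEquiv).symm
  rw [h1, card_PG]
  exact card_cent_le s hs

/-- the presented group is the centralizer of the transvection -/
theorem iso_cent : Nonempty (PG ≃* Subgroup.centralizer ({s} : Set SL5)) :=
  ⟨(MonoidHom.ofInjective psi2_injective).trans (MulEquiv.subgroupCongr (range_eq s hs))⟩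

end Cent

end Cfsg.Agent.Lib.Helper92.HC
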