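import Cfsg.Agent.Lib.Helper92.HC.ToHe
import Cfsg.Agent.Lib.Helper92.HC.SLCent

/-!
# The centralizer of the involution `e` of the Held group is the centralizer of a transvection of `SL(5, 2)` (helper92)
-/

set_option autoImplicit false

namespace Cfsg.Agent.Lib.Helper92.HC
open Cfsg.Agent.Lib.Helper92.TCert
open Cfsg.Agent.Lib.Helper92.PresGen
open Cfsg.Agent.Lib.Helper92.He (HG phi evW)
open Cfsg.Agent.Lib.Helper92.He.S44 (evW_cons evW_append evW_reverse finite_HG)

theorem lv2_sq : He.lv 2 * He.lv 2 = 1 := by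
  have h := He.S44.lv_inv 2 (by norm_num)
  calc He.lv 2 * He.lv 2 = He.lv 2 * (He.lv 2)⁻¹ := by rw [h]
    _ = 1 := mul_inv_cancel _

set_option maxRecDepth 100000 in
theorem chk_move : wordL [2] 15 = 30 := by decide +kernel

theorem lv2_ne : He.lv 2 ≠ 1 := by
  intro h
  have h2 : He.lv 2 = evW [2] := by simp [evW]
  have h3 : phi (evW [2]) 15 = 30 := by
    rw [phi_evW_apply [2] (by simp) 15 (by norm_num)]; exact chk_move
  rw [← h2, h, map_one] at h3
  simp at h3

theorem order_lv2 : orderOf (He.lv 2) = 2 := by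
  haveI : Fact (Nat.Prime 2) := ⟨Nat.prime_two⟩
  exact orderOf_eq_prime (by rw [pow_two]; exact lv2_sq) lv2_ne

theorem yw_comm (x : ℕ) (hx : x < 7) : He.lv 2 * evW (yw x) = evW (yw x) * He.lv 2 := by
  have h := chk_comm
  rw [List.all_eq_true] at h
  have h1 := h x (List.mem_range.mpr hx)
  have hlt : ∀ y ∈ yw x ++ 2 :: ((yw x).reverse ++ [2]), y < 7 := by
    intro y hy
    simp only [List.mem_append, List.mem_cons, List.mem_reverse, List.mem_singleton, List.not_mem_nil,
      or_false] at hy
    rcases hy with hy | rfl | hy | rfl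
    · exact yw_lt x y hy
    · norm_num
    · exact yw_lt x y hy
    · norm_num
  have h2 := evW_eq_one _ hlt h1
  rw [evW_append, evW_cons, evW_append, evW_reverse _ (yw_lt x)] at h2
  have h3 : evW [2] = He.lv 2 := by simp [evW]
  rw [h3] at h2
  set g := evW (yw x) with hg
  set z := He.lv 2 with hz
  have h4 : g * z * g⁻¹ = z⁻¹ := by
    apply eq_inv_of_mul_eq_one_left
    rw [← h2]; group
  have h5 : z⁻¹ = z := He.S44.lv_inv 2 (by norm_num)
  rw [h5] at h4
  calc z * g = (g * z * g⁻¹) * g := by rw [h4]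
    _ = g * z := by group

theorem psi1_range_le : psi1.range ≤ Subgroup.centralizer ({He.lv 2} : Set HG) := by
  rw [MonoidHom.range_eq_map, ← PresentedGroup.closure_range_of, MonoidHom.map_closure, Subgroup.closure_le]
  rintro _ ⟨_, ⟨i, rfl⟩, rfl⟩
  have e : psi1 (PresentedGroup.of i) = fH i := PresentedGroup.toGroup.of _
  rw [e]
  show fH i ∈ Subgroup.centralizer ({He.lv 2} : Set HG)
  rw [Subgroup.mem_centralizer_iff]
  intro h hh
  rw [Set.mem_singleton_iff] at hh
  subst hh
  exact yw_comm i.val i.isLt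

theorem psi1_range_eq : psi1.range = Subgroup.centralizer ({He.lv 2} : Set HG) := by
  have := finite_HG
  have hfin : Finite (Subgroup.centralizer ({He.lv 2} : Set HG)) := inferInstance
  apply Subgroup.eq_of_le_of_card_ge psi1_range_le
  have h1 : Nat.card psi1.range = Nat.card PG :=
    (Nat.card_congr (MonoidHom.ofInjective psi1_injective).toEquiv).symm
  rw [h1, card_PG]
  exact card_centralizer_le

/-- the presented group is the centralizer of the involution `e` -/
theorem iso_centHe : Nonempty (PG ≃* Subgroup.centralizer ({He.lv 2} : Set HG)) :=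
  ⟨(MonoidHom.ofInjective psi1_injective).trans (MulEquiv.subgroupCongr psi1_range_eq)⟩

/-- the main statement -/
theorem main (s : SL5) (hs : (s : Matrix (Fin 5) (Fin 5) (ZMod 2)) = Matrix.transvection 0 1 1) :
    ∃ z : HG, orderOf z = 2 ∧
      Nonempty (↥(Subgroup.centralizer ({z} : Set HG)) ≃* ↥(Subgroup.centralizer ({s} : Set SL5))) := by
  obtain ⟨i1⟩ := iso_centHe
  obtain ⟨i2⟩ := iso_cent s hs
  exact ⟨He.lv 2, order_lv2, ⟨i1.symm.trans i2⟩⟩

end Cfsg.Agent.Lib.Helper92.HC
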