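import Cfsg.Agent.Lib.Helper92.HC.CertP
import Cfsg.Agent.Lib.Helper92.PresGen

/-!
# A presented group on seven involutions with at most 21504 elements (helper92)

The group `2^{1+6}:L3(2)` (centralizer of a 2-central involution of the Held group, and of a transvection
of `SL(5, 2)`), presented on seven involutions; a static coset-enumeration certificate over the trivial
subgroup shows that it has at most 21504 elements.
-/

set_option autoImplicit false

namespace Cfsg.Agent.Lib.Helper92.HC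
open Cfsg.Agent.Lib.Helper92.TCert
open Cfsg.Agent.Lib.Helper92.PresGen

/-- the relators (words in the seven involutions `0, …, 6`) -/
def rels : List (List ℕ) :=
  [[0, 0], [1, 1], [2, 2], [3, 3], [4, 4], [5, 5], [6, 6], [1, 2, 1, 2, 1, 2], [0, 2, 0, 2], [0, 4, 0, 4],
   [1, 3, 1, 3], [1, 4, 1, 4], [2, 4, 2, 4], [3, 4, 3, 4, 2, 1, 0, 2, 1, 0, 2, 1, 0], [4, 6, 4, 6],
   [3, 5, 3, 5], [2, 5, 2, 5], [1, 6, 1, 6, 1, 6], [1, 5, 1, 5, 1, 5], [2, 5, 4, 6, 3, 4, 5, 3, 6],
   [0, 1, 0, 6, 1, 0, 6, 1, 4, 6], [0, 1, 0, 5, 1, 3, 0, 5, 1, 5]]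

/-- the letters in the free group -/
def fl (x : ℕ) : FreeGroup (Fin 7) := if h : x < 7 then FreeGroup.of ⟨x, h⟩ else 1

/-- the set of relators -/
def relSet : Set (FreeGroup (Fin 7)) := {r | ∃ w ∈ rels, r = evr fl w}

/-- the presented group -/
abbrev PG : Type := PresentedGroup relSet

/-- the letters in the group -/
noncomputable def lv (x : ℕ) : PG := PresentedGroup.mk relSet (fl x)

theorem rels_lt : ∀ w ∈ rels, ∀ x ∈ w, x < 7 := by decide

theorem rels_one : ∀ w ∈ rels, evr lv w = 1 := by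
  intro w hw
  have e : evr lv w = PresentedGroup.mk relSet (evr fl w) := evr_map (PresentedGroup.mk relSet) fl w
  rw [e]
  exact PresentedGroup.one_of_mem ⟨w, hw, rfl⟩

theorem sq_mem : ∀ x < 7, [x, x] ∈ rels := by decide

theorem lv_sq (x : ℕ) (hx : x < 7) : lv x * lv x = 1 := by
  have h : evr lv [x, x] = 1 := rels_one _ (sq_mem x hx)
  simpa [evr] using h

theorem lv_inv (x : ℕ) (hx : x < 7) : (lv x)⁻¹ = lv x := inv_eq_of_mul_eq_one_left (lv_sq x hx)

/-- the letters, with the eighth column a copy of the seventh (its inverse column) -/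
noncomputable def lv' (x : ℕ) : PG := if x = 7 then lv 6 else lv x

theorem lv'_lt (x : ℕ) (hx : x < 7) : lv' x = lv x := by
  unfold lv'; rw [if_neg (by omega)]

theorem lv'_ic (x : ℕ) (hx : x < 8) : lv' (ic x) = (lv' x)⁻¹ := by
  have hic : ∀ y, y < 8 → ic y = if y < 6 then y else 13 - y := by
    intro y _
    unfold ic; rw [bifN_eq]
    by_cases h6 : y < 6
    · rw [if_pos h6, if_pos ((blt_iff y 6).mpr h6)]
    · rw [if_neg h6, if_neg (fun h => h6 ((blt_iff y 6).mp h))]; rfl
  rw [hic x hx]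
  by_cases h6 : x < 6
  · rw [if_pos h6, lv'_lt x (by omega), lv_inv x (by omega)]
  · rw [if_neg h6]
    have h : x = 6 ∨ x = 7 := by omega
    rcases h with rfl | rfl
    · show lv' 7 = (lv' 6)⁻¹
      rw [lv'_lt 6 (by norm_num), lv_inv 6 (by norm_num)]; rfl
    · show lv' 6 = (lv' 7)⁻¹
      have : lv' 7 = lv 6 := rfl
      rw [this, lv'_lt 6 (by norm_num), lv_inv 6 (by norm_num)]

theorem rels_one' : ∀ w ∈ rels, evr lv' w = 1 := by
  intro w hw
  rw [evr_congr lv' lv w (fun x hx => lv'_lt x (rels_lt w hw x hx))]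
  exact rels_one w hw

set_option maxRecDepth 100000 in
theorem rotP_ok : (List.range P.nR).map (rotWordOf P.rot) = allRotsOf rels := by decide +kernel

theorem hypP : Hyp (⊥ : Subgroup PG) lv' P.row P.rot 8 P.nR 0 P.nN where
  hN := by decide
  hrow := fun u h => rowOf_ge P.trie P.nN u h
  hdp0 := P.dp0
  hrot := rot_one_of lv' P.rot rels P.nR rels_one' rotP_ok
  hsub := fun x hx => absurd hx (by omega)
  hic := lv'_ic
  hS := fun u hu x hx => (chkNode_spec P.row P.rot 8 P.nR 0 u (P.chk_nodes u hu)).2 x hx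
  hQ := fun u hu => (chkNode_spec P.row P.rot 8 P.nR 0 u (P.chk_nodes u hu)).1

theorem lv'_gen : Subgroup.closure (lv' '' {x | x < 7}) = ⊤ := by
  rw [eq_top_iff, ← PresentedGroup.closure_range_of]
  apply Subgroup.closure_mono
  rintro _ ⟨i, rfl⟩
  refine ⟨i.val, i.isLt, ?_⟩
  rw [lv'_lt i.val i.isLt]
  show PresentedGroup.mk relSet (fl i.val) = PresentedGroup.of i
  unfold fl; rw [dif_pos i.isLt]; rfl

/-- the presented group is finite of order at most 21504 -/
theorem card_PG_le : Finite PG ∧ Nat.card PG ≤ 21504 := by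
  obtain ⟨hf, hc⟩ := card_quotient_le hypP P.nC 7 1048575 (by decide) (by decide) (by norm_num) lv'_gen
    (fun c hc x hx => chkFinG_spec P.row 8 P.nC 1048575 7 c (P.chk_fin c hc) x hx)
  have hc' : Nat.card (PG ⧸ (⊥ : Subgroup PG)) ≤ 21504 := hc
  have e : (PG ⧸ (⊥ : Subgroup PG)) ≃ PG := (QuotientGroup.quotientBot).toEquiv
  have := hf
  refine ⟨Finite.of_equiv _ e, ?_⟩
  rw [← Nat.card_congr e]; exact hc'

end Cfsg.Agent.Lib.Helper92.HC
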