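import Cfsg.Agent.Lib.Helper92.HC.Pres
import Cfsg.Agent.Lib.Helper92.SimpleAux2

/-!
# The presented group of order 21504 inside `SL(5, 2)` (helper92)

Seven involutions of `SL(5, 2)` that satisfy the relators of `HC.PG`; a stabilizer chain on the vectors
`e₁, e₂, e₃, e₄` shows that the presented group has exactly 21504 elements and embeds into `SL(5, 2)`.
-/

set_option autoImplicit false

namespace Cfsg.Agent.Lib.Helper92.HC
open Cfsg.Agent.Lib.Helper92.TCert
open Cfsg.Agent.Lib.Helper92.PresGen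
open Cfsg.Agent.Lib.Helper92.SimpleAux

/-- the group `SL(5, 2)` -/
abbrev SL5 : Type := Matrix.SpecialLinearGroup (Fin 5) (ZMod 2)

/-- the vectors -/
abbrev V5 : Type := Fin 5 → ZMod 2

/-- a matrix from the bit masks of its rows -/
def bitM (rows : List ℕ) : Matrix (Fin 5) (Fin 5) (ZMod 2) :=
  fun i j => if (rows.getD i.val 0).testBit j.val then 1 else 0

/-- the rows of the seven matrices -/
def mrows : ℕ → List ℕ
  | 0 => [9, 2, 4, 8, 18] | 1 => [3, 2, 4, 16, 8] | 2 => [3, 2, 4, 8, 24] | 3 => [1, 2, 6, 8, 16]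
  | 4 => [5, 2, 4, 8, 16] | 5 => [11, 2, 12, 8, 24] | 6 => [3, 2, 4, 8, 30] | _ => [1, 2, 4, 8, 16]

/-- the seven matrices -/
def mM (x : ℕ) : Matrix (Fin 5) (Fin 5) (ZMod 2) := bitM (mrows x)

theorem mM_sq : ∀ x < 7, mM x * mM x = 1 := by decide

theorem det_of_sq (M : Matrix (Fin 5) (Fin 5) (ZMod 2)) (h : M * M = 1) : M.det = 1 := by
  have h1 : M.det * M.det = 1 := by rw [← Matrix.det_mul, h, Matrix.det_one]
  have : ∀ x : ZMod 2, x * x = 1 → x = 1 := by decide
  exact this _ h1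

theorem mM_sq' (x : ℕ) : mM x * mM x = 1 := by
  by_cases h : x < 7
  · exact mM_sq x h
  · obtain ⟨n, rfl⟩ : ∃ n, x = n + 7 := ⟨x - 7, by omega⟩
    show bitM [1, 2, 4, 8, 16] * bitM [1, 2, 4, 8, 16] = 1
    decide

/-- the seven matrices as elements of the group -/
def mS (x : ℕ) : SL5 := ⟨mM x, det_of_sq _ (mM_sq' x)⟩

theorem mS_val (x : ℕ) : (mS x).1 = mM x := rfl

/-- the value of a word (in acting order) as a matrix -/
def evrM : List ℕ → Matrix (Fin 5) (Fin 5) (ZMod 2)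
  | [] => 1
  | x :: w => evrM w * mM x

theorem evr_val (w : List ℕ) : (evr mS w).1 = evrM w := by
  induction w with
  | nil => rfl
  | cons x w ih =>
    rw [evr, evrM, Matrix.SpecialLinearGroup.coe_mul, ih, mS_val x]

set_option maxRecDepth 100000 in
theorem relM_ok : ∀ w ∈ rels, evrM w = 1 := by decide

theorem relS_ok (w : List ℕ) (hw : w ∈ rels) : evr mS w = 1 := by
  apply Subtype.ext
  rw [evr_val]
  exact relM_ok w hw

/-- images of the generators -/
def fS (i : Fin 7) : SL5 := mS i.val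

theorem lift_fl_S (x : ℕ) (hx : x < 7) : FreeGroup.lift fS (fl x) = mS x := by
  unfold fl; rw [dif_pos hx, FreeGroup.lift_apply_of]; rfl

theorem lift_relS (r : FreeGroup (Fin 7)) (hr : r ∈ relSet) : FreeGroup.lift fS r = 1 := by
  obtain ⟨w, hw, rfl⟩ := hr
  rw [← evr_map (FreeGroup.lift fS) fl w,
    evr_congr _ mS w (fun x hx => lift_fl_S x (rels_lt w hw x hx))]
  exact relS_ok w hw

/-- the presented group inside `SL(5, 2)` -/
noncomputable def psi2 : PG →* SL5 := PresentedGroup.toGroup (f := fS) lift_relS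

theorem psi2_lv (x : ℕ) (hx : x < 7) : psi2 (lv x) = mS x := by
  have e : lv x = PresentedGroup.of (⟨x, hx⟩ : Fin 7) := by
    unfold lv fl; rw [dif_pos hx]; rfl
  rw [e]
  exact PresentedGroup.toGroup.of _

theorem psi2_evr (w : List ℕ) (hw : ∀ x ∈ w, x < 7) : psi2 (evr lv w) = evr mS w := by
  rw [← evr_map psi2 lv w]
  exact evr_congr _ mS w (fun x hx => psi2_lv x (hw x hx))

/-- the standard basis vectors -/
def e (k : Fin 5) : V5 := Pi.single k 1

theorem psi2_evr_smul (w : List ℕ) (hw : ∀ x ∈ w, x < 7) (v : V5) :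
    psi2 (evr lv w) • v = evrM w • v := by
  rw [psi2_evr w hw, Matrix.SpecialLinearGroup.smul_def, evr_val]

/-- witness words of a level of the chain -/
def LA : List (List ℕ) :=
  [[], [1], [3], [3, 1], [6, 1], [0, 1], [6, 3, 1], [3, 0, 1], [0], [6], [3, 0], [6, 3], [0, 1, 0], [6, 1, 0], [6, 1, 5], [0, 1, 5]]

/-- witness words of a level of the chain -/
def LB : List (List ℕ) :=
  [[], [4], [6, 0, 1, 5, 6, 0], [6, 0, 1, 5, 2], [6, 0, 1], [6, 4, 0, 1], [6, 4, 1, 5, 3, 2, 1, 0], [6, 1, 5, 3, 2, 1, 0], [6, 2, 0], [6, 4, 2, 0], [0, 1, 6, 1, 5, 0], [6, 0, 1, 5, 1], [6, 0, 1, 2, 1], [0, 1, 6, 1, 2, 0]]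

/-- witness words of a level of the chain -/
def LC : List (List ℕ) :=
  [[], [5, 4, 5, 4], [4, 5, 4, 2], [5, 2], [1, 2], [5, 4, 1, 5, 4, 1], [4, 5, 4, 1, 2, 1], [5, 1, 2, 1], [2, 1], [5, 4, 5, 4, 2, 1], [4, 5, 4, 1], [5, 1]]

/-- witness words of a level of the chain -/
def LD : List (List ℕ) :=
  [[], [1, 5, 4, 5, 4, 1], [4, 1, 5, 4, 2, 1], [1, 5, 2, 1], [0, 1, 2, 0, 1, 0], [1, 6, 5, 6, 4, 5, 4, 1], [4, 1, 5, 3, 4, 3, 1], [1, 6, 5, 6, 2, 1]]

theorem LA_lt : ∀ w ∈ LA, ∀ x ∈ w, x < 7 := by decide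
theorem LB_lt : ∀ w ∈ LB, ∀ x ∈ w, x < 7 := by decide
theorem LC_lt : ∀ w ∈ LC, ∀ x ∈ w, x < 7 := by decide
theorem LD_lt : ∀ w ∈ LD, ∀ x ∈ w, x < 7 := by decide

/-- the images of a vector under a list of words -/
def imgs (L : List (List ℕ)) (k : Fin 5) : Finset V5 := (L.map (fun w => evrM w • e k)).toFinset

set_option maxRecDepth 100000 in
theorem cA : (imgs LA 1).card = 16 := by decide

set_option maxRecDepth 100000 in
theorem cB : (imgs LB 2).card = 14 := by decide

set_option maxRecDepth 100000 in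
theorem cC : (imgs LC 3).card = 12 := by decide

set_option maxRecDepth 100000 in
theorem cD : (imgs LD 4).card = 8 := by decide

set_option maxRecDepth 100000 in
theorem fixB : ∀ w ∈ LB, evrM w • e 1 = e 1 := by decide

set_option maxRecDepth 100000 in
theorem fixC : ∀ w ∈ LC, evrM w • e 1 = e 1 ∧ evrM w • e 2 = e 2 := by decide

set_option maxRecDepth 100000 in
theorem fixD : ∀ w ∈ LD, evrM w • e 1 = e 1 ∧ evrM w • e 2 = e 2 ∧ evrM w • e 3 = e 3 := by decide

theorem mem_imgs (L : List (List ℕ)) (k : Fin 5) (x : V5) (hx : x ∈ imgs L k) :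
    ∃ w ∈ L, evrM w • e k = x := by
  unfold imgs at hx
  rw [List.mem_toFinset, List.mem_map] at hx
  exact hx

/-- the presented group has exactly 21504 elements, and its image in `SL(5, 2)` acts faithfully -/
theorem card_PG_and_faithful : Nat.card PG = 21504 ∧ Function.Injective psi2 := by
  letI : MulAction PG V5 := MulAction.compHom V5 psi2
  have hsm : ∀ (g : PG) (v : V5), g • v = psi2 g • v := fun _ _ => rfl
  have := card_PG_le.1
  have key := chain4_eq_and_faithful (G := PG) (e 1) (e 2) (e 3) (e 4)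
    (imgs LA 1) (imgs LB 2) (imgs LC 3) (imgs LD 4)
    (by
      intro x hx
      obtain ⟨w, hw, rfl⟩ := mem_imgs _ _ x hx
      exact ⟨evr lv w, by rw [hsm, psi2_evr_smul w (LA_lt w hw)]⟩)
    (by
      intro x hx
      obtain ⟨w, hw, rfl⟩ := mem_imgs _ _ x hx
      refine ⟨evr lv w, ?_, ?_⟩
      · rw [hsm, psi2_evr_smul w (LB_lt w hw)]; exact fixB w hw
      · rw [hsm, psi2_evr_smul w (LB_lt w hw)])
    (by
      intro x hx
      obtain ⟨w, hw, rfl⟩ := mem_imgs _ _ x hx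
      refine ⟨evr lv w, ?_, ?_, ?_⟩
      · rw [hsm, psi2_evr_smul w (LC_lt w hw)]; exact (fixC w hw).1
      · rw [hsm, psi2_evr_smul w (LC_lt w hw)]; exact (fixC w hw).2
      · rw [hsm, psi2_evr_smul w (LC_lt w hw)])
    (by
      intro x hx
      obtain ⟨w, hw, rfl⟩ := mem_imgs _ _ x hx
      refine ⟨evr lv w, ?_, ?_, ?_, ?_⟩
      · rw [hsm, psi2_evr_smul w (LD_lt w hw)]; exact (fixD w hw).1
      · rw [hsm, psi2_evr_smul w (LD_lt w hw)]; exact (fixD w hw).2.1
      · rw [hsm, psi2_evr_smul w (LD_lt w hw)]; exact (fixD w hw).2.2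
      · rw [hsm, psi2_evr_smul w (LD_lt w hw)])
    (by rw [cA, cB, cC, cD]; exact card_PG_le.2)
  rw [cA, cB, cC, cD] at key
  refine ⟨key.1, ?_⟩
  rw [← MonoidHom.ker_eq_bot_iff, Subgroup.eq_bot_iff_forall]
  intro g hg
  have h1 : psi2 g = 1 := hg
  exact key.2 g (by rw [hsm, h1, one_smul]) (by rw [hsm, h1, one_smul]) (by rw [hsm, h1, one_smul])
    (by rw [hsm, h1, one_smul])

theorem card_PG : Nat.card PG = 21504 := card_PG_and_faithful.1

theorem psi2_injective : Function.Injective psi2 := card_PG_and_faithful.2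

end Cfsg.Agent.Lib.Helper92.HC
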