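import Cfsg.Agent.Lib.Helper92.HC.ClassHe
import Cfsg.Agent.Lib.Helper92.HC.Pres

/-!
# The presented group of order 21504 is the centralizer of the involution `e` of the Held group (helper92)
-/

set_option autoImplicit false

namespace Cfsg.Agent.Lib.Helper92.HC
open Cfsg.Agent.Lib.Helper92.TCert
open Cfsg.Agent.Lib.Helper92.PresGen
open Cfsg.Agent.Lib.Helper92.SimpleAux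
open Cfsg.Agent.Lib.Helper92.VecPerm
open Cfsg.Agent.Lib.Helper92.He (HG phi evW nets netsOK psi phi_evW smul_val card_HG trans0 card_and_faithful)
open Cfsg.Agent.Lib.Helper92.He.S44 (evW_cons evW_append evW_reverse finite_HG)

/-- images of the seven letters: `a, b, c, f, g` and two conjugates of `c` -/
def yw : ℕ → List ℕ
  | 0 => [0] | 1 => [6] | 2 => [5] | 3 => [3] | 4 => [4]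
  | 5 => [1, 2, 3, 1, 5, 1, 3, 2, 1] | 6 => [1, 2, 4, 1, 5, 1, 4, 2, 1] | _ => []

theorem yw_lt (x : ℕ) : ∀ y ∈ yw x, y < 7 := by
  by_cases hx : x < 7
  · interval_cases x <;> decide
  · have : yw x = [] := by
      unfold yw
      split <;> first | omega | rfl
    rw [this]; intro y hy; simp at hy

/-- the word of a word -/
def expand (w : List ℕ) : List ℕ := (w.map yw).flatten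

theorem expand_lt (w : List ℕ) : ∀ y ∈ expand w, y < 7 := by
  intro y hy
  unfold expand at hy
  rw [List.mem_flatten] at hy
  obtain ⟨l, hl, hyl⟩ := hy
  rw [List.mem_map] at hl
  obtain ⟨x, _, rfl⟩ := hl
  exact yw_lt x y hyl

theorem evW_expand (w : List ℕ) : evW (expand w) = (w.map (fun x => evW (yw x))).prod := by
  induction w with
  | nil => simp [expand, evW]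
  | cons x w ih =>
    have e : expand (x :: w) = yw x ++ expand w := by simp [expand]
    rw [e, evW_append, ih, List.map_cons, List.prod_cons]

/-- a word fixes the four base points -/
noncomputable def fix4 (W : List ℕ) : Bool :=
  Nat.beq (wordL W 0) 0 && (Nat.beq (wordL W 1) 1 && (Nat.beq (wordL W 15) 15 && Nat.beq (wordL W 34) 34))

theorem evW_eq_one (W : List ℕ) (hW : ∀ x ∈ W, x < 7) (h : fix4 W = true) : evW W = 1 := by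
  unfold fix4 at h
  simp only [Bool.and_eq_true] at h
  obtain ⟨h0, h1, h15, h34⟩ := h
  have key : ∀ (i : ℕ) (hi : i < 2058), Nat.beq (wordL W i) i = true →
      evW W • (⟨i, hi⟩ : Fin 2058) = ⟨i, hi⟩ := by
    intro i hi hb
    apply Fin.ext
    rw [smul_val]
    show phi (evW W) i = i
    rw [phi_evW_apply W hW i hi]
    exact Nat.eq_of_beq_eq_true hb
  exact card_and_faithful.2 (evW W) (key 0 (by norm_num) h0) (key 1 (by norm_num) h1)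
    (key 15 (by norm_num) h15) (key 34 (by norm_num) h34)

set_option maxRecDepth 100000 in
theorem chk_rel : rels.all (fun w => fix4 (expand w.reverse)) = true := by decide +kernel

set_option maxRecDepth 100000 in
theorem chk_comm : (List.range 7).all (fun x => fix4 (yw x ++ 2 :: ((yw x).reverse ++ [2]))) = true := by
  decide +kernel

/-- images of the generators -/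
noncomputable def fH (i : Fin 7) : HG := evW (yw i.val)

theorem lift_fl_H (x : ℕ) (hx : x < 7) : FreeGroup.lift fH (fl x) = evW (yw x) := by
  unfold fl; rw [dif_pos hx, FreeGroup.lift_apply_of]; rfl

theorem lift_relH (r : FreeGroup (Fin 7)) (hr : r ∈ relSet) : FreeGroup.lift fH r = 1 := by
  obtain ⟨w, hw, rfl⟩ := hr
  rw [← evr_map (FreeGroup.lift fH) fl w,
    evr_congr _ (fun x => evW (yw x)) w (fun x hx => lift_fl_H x (rels_lt w hw x hx)), evr_eq_prod,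
    ← evW_expand]
  have h := chk_rel
  rw [List.all_eq_true] at h
  exact evW_eq_one _ (expand_lt _) (h w hw)

/-- the presented group inside the Held group -/
noncomputable def psi1 : PG →* HG := PresentedGroup.toGroup (f := fH) lift_relH

theorem psi1_lv (x : ℕ) (hx : x < 7) : psi1 (lv x) = evW (yw x) := by
  have e : lv x = PresentedGroup.of (⟨x, hx⟩ : Fin 7) := by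
    unfold lv fl; rw [dif_pos hx]; rfl
  rw [e]
  exact PresentedGroup.toGroup.of _

/-- in-order products in the presented group -/
noncomputable def evP (w : List ℕ) : PG := (w.map lv).prod

theorem psi1_evP (w : List ℕ) (hw : ∀ x ∈ w, x < 7) : psi1 (evP w) = evW (expand w) := by
  unfold evP
  rw [map_list_prod, List.map_map, evW_expand]
  congr 1
  apply List.map_congr_left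
  intro x hx
  exact psi1_lv x (hw x hx)

theorem phi_psi1_evP (w : List ℕ) (hw : ∀ x ∈ w, x < 7) (i : ℕ) (hi : i < 2058) :
    phi (psi1 (evP w)) i = wordL (expand w) i := by
  rw [psi1_evP w hw, phi_evW_apply _ (expand_lt w) i hi]

/-- witness words for the orbit of the point 46 -/
def LA1 : List (List ℕ) := [
  [4], [5, 4, 3], [4, 1], [3, 4, 3], [3, 4], [], [4, 1, 0, 1], [1, 5, 4, 3], [5, 3, 4], [6, 3], [4, 5, 4, 3], [5, 4, 2, 1, 0, 1],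
  [4, 0, 1], [4, 2, 1], [3, 4, 3, 1], [3, 4, 1], [1], [4, 2, 1, 0, 1], [4, 3], [4, 3, 4, 3], [4, 3, 4], [3], [3, 4, 1, 0, 1], [1, 0, 1],
  [0, 1, 5, 4, 3], [2, 1, 5, 4, 3], [1, 5, 3, 4], [1, 6, 3], [4, 1, 5, 4, 3], [5, 4, 1, 0, 1], [5, 4], [3, 6, 4, 3], [6, 4, 3], [6, 3, 4], [1, 0, 1, 6, 3], [3, 6, 3, 2, 1, 0, 1],
  [5, 3, 1, 6, 3, 1], [4, 2, 0, 1], [3, 4, 3, 0, 1], [3, 4, 0, 1], [0, 1], [3, 4, 3, 2, 1], [3, 4, 2, 1], [2, 1], [4, 3, 1], [4, 3, 4, 3, 1], [4, 3, 4, 1], [3, 1],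
  [4, 3, 1, 0, 1], [2, 1, 0, 1], [3, 2, 1, 0, 1], [3, 1, 0, 1], [2, 0, 1, 5, 4, 3], [0, 1, 5, 3, 4], [0, 1, 6, 3], [4, 0, 1, 5, 4, 3], [3, 6, 2, 0, 1, 5, 6, 1], [2, 1, 5, 3, 4], [2, 1, 6, 3], [4, 2, 1, 5, 4, 3],
  [1, 5, 4], [3, 1, 6, 4, 3], [1, 6, 4, 3], [1, 6, 3, 4], [1, 0, 1, 5, 4], [3, 6, 3, 1, 0, 1], [6, 3, 1, 0, 1], [6, 3, 2, 1, 0, 1], [5, 3, 0, 1, 6, 3, 1], [1, 5, 3, 1, 6, 3, 1], [3, 6, 1, 5, 4, 1], [5, 3, 6, 1, 5, 4],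
  [5, 1, 6, 3, 1], [4, 5, 3, 1, 6, 3, 1], [5, 1, 6, 3, 0, 1], [4, 1, 2, 0, 1], [3, 4, 2, 0, 1], [2, 0, 1], [4, 3, 0, 1], [1, 2, 1, 0, 1], [4, 3, 4, 0, 1], [3, 0, 1], [4, 3, 2, 1], [0, 1, 2, 0, 1],
  [4, 3, 4, 2, 1], [6, 4, 0, 1], [3, 2, 1], [6, 3, 2, 1, 6, 5, 1], [2, 0, 1, 5, 3, 4], [3, 6, 2, 1, 5, 6, 1], [2, 0, 1, 6, 3], [4, 2, 0, 1, 5, 4, 3], [0, 1, 5, 4], [3, 0, 1, 6, 4, 3], [0, 1, 6, 4, 3], [0, 1, 6, 3, 4],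
  [3, 6, 0, 1, 5, 6, 1], [5, 3, 6, 1, 5, 3, 6, 1], [6, 2, 0, 1, 5, 6, 1], [5, 6, 1, 5, 6, 3, 0, 1], [4, 3, 6, 2, 1, 5, 6, 0, 1], [2, 1, 5, 4], [3, 2, 1, 6, 4, 3], [2, 1, 6, 4, 3], [5, 0, 1, 6, 3, 4], [2, 1, 6, 3, 4], [4, 5, 1, 6, 4, 2, 0, 1], [5, 1, 6, 4, 5, 2, 1],
  [3, 6, 0, 1, 5, 4, 1], [5, 1, 6, 5, 4, 5, 1], [5, 0, 1, 6, 3, 1], [5, 6, 4, 1, 5, 4, 3], [5, 1, 6, 4, 3, 1], [1, 5, 1, 6, 4, 3, 1], [2, 1, 5, 3, 1, 6, 3, 1], [1, 5, 3, 6, 1, 5, 4], [1, 5, 1, 6, 3, 1], [6, 3, 6, 1, 5, 6, 0, 1], [1, 5, 1, 6, 3, 0, 1], [3, 1, 6, 1, 5, 4, 1],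
  [3, 6, 1, 5, 6, 1], [3, 6, 5, 1, 6, 3], [6, 1, 5, 4, 1], [4, 3, 6, 1, 5, 4, 1], [5, 0, 1, 6, 3, 4, 1], [5, 6, 1, 5, 4], [3, 4, 5, 1, 6, 3, 1], [4, 5, 1, 6, 3, 1], [4, 5, 6, 1, 5, 4], [5, 2, 1, 6, 3, 0, 1], [5, 3, 1, 6, 3, 0, 1], [4, 5, 1, 6, 3, 0, 1],
  [4, 3, 2, 0, 1], [1, 2, 0, 1], [3, 1, 2, 0, 1], [6, 4, 1], [3, 2, 0, 1], [6, 3, 2, 0, 1, 6, 5, 1], [6, 0, 1], [5, 3, 2, 1, 6, 5, 0, 1], [6, 4, 2, 0, 1], [6, 3, 4, 3, 0, 1], [3, 6, 4, 0, 1], [6, 5, 1, 6, 4, 5, 1],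
  [5, 1, 6, 1, 5, 4, 0, 1], [1, 6, 3, 2, 1, 6, 5, 1], [6, 3, 1, 6, 5, 1], [6, 2, 1, 5, 3, 6, 2, 1], [3, 6, 3, 2, 1, 6, 5, 1], [6, 4, 3, 2, 1, 6, 5, 1], [2, 1, 6, 4, 1, 5, 4, 1], [2, 1, 6, 1, 5, 3, 4, 1], [3, 6, 2, 1, 5, 6, 3, 1], [2, 0, 1, 5, 4], [3, 2, 0, 1, 6, 4, 3], [3, 2, 1, 6, 1, 5, 2, 1],
  [6, 2, 1, 5, 6, 1], [5, 1, 6, 4, 1, 5, 2, 1], [2, 0, 1, 6, 4, 3], [5, 1, 6, 3, 4], [2, 0, 1, 6, 3, 4], [4, 5, 1, 6, 1, 2, 0, 1], [3, 1, 6, 0, 1, 5, 6, 1], [3, 0, 1, 6, 1, 5, 2, 1], [6, 0, 1, 5, 6, 1], [3, 6, 1, 5, 6, 3, 0, 1], [5, 6, 1, 5, 3, 6, 3, 1], [5, 6, 1, 5, 3, 6, 1],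
  [5, 6, 4, 0, 1, 5, 6, 1], [6, 4, 2, 0, 1, 5, 6, 1], [4, 5, 0, 1, 6, 3, 4], [6, 2, 1, 5, 6, 3, 0, 1], [4, 3, 6, 1, 5, 6, 0, 1], [4, 5, 6, 1, 5, 6, 0, 1], [3, 6, 2, 1, 5, 6, 0, 1], [5, 4, 0, 1, 5, 4, 3], [6, 5, 1, 6, 3, 0, 1], [5, 0, 1, 6, 4, 3], [4, 5, 0, 1, 6, 2, 0, 1], [5, 6, 3, 1, 6, 4, 2, 0, 1],
  [5, 1, 6, 4, 2, 0, 1], [4, 5, 3, 1, 6, 4, 2, 1], [3, 4, 5, 1, 6, 2, 1], [5, 2, 1, 6, 4, 5, 2, 1], [5, 4, 1, 5, 6, 1], [1, 5, 0, 1, 6, 3, 1], [6, 3, 1, 6, 1, 5, 2, 1], [3, 1, 6, 0, 1, 5, 4, 1], [3, 6, 5, 0, 1, 6, 3], [6, 0, 1, 5, 4, 1], [6, 5, 3, 1, 6, 4, 3], [5, 1, 6, 3, 4, 1],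
  [5, 6, 0, 1, 5, 4], [5, 6, 3, 1, 6, 4, 3], [4, 5, 0, 1, 6, 3, 1], [4, 1, 5, 1, 6, 4, 3, 1], [4, 5, 6, 0, 1, 5, 4], [6, 5, 1, 6, 3, 4], [5, 3, 1, 6, 4, 3, 1], [4, 5, 1, 6, 4, 3, 1], [2, 1, 5, 1, 6, 4, 3, 1], [1, 5, 1, 6, 3, 4, 1], [0, 1, 5, 1, 6, 3, 1], [3, 2, 1, 6, 1, 5, 4, 1],
  [2, 1, 5, 3, 6, 1, 5, 4], [2, 1, 5, 1, 6, 3, 1], [6, 3, 6, 2, 1, 5, 6, 0, 1], [5, 4, 0, 1, 5, 6, 1], [1, 5, 6, 1, 5, 4], [3, 4, 1, 5, 1, 6, 3, 1], [4, 1, 5, 1, 6, 3, 1], [4, 1, 5, 6, 1, 5, 4], [2, 1, 5, 1, 6, 3, 0, 1], [5, 4, 1, 5, 6, 4, 1], [4, 1, 5, 1, 6, 3, 0, 1], [3, 0, 1, 6, 1, 5, 4, 1],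
  [3, 1, 6, 1, 5, 6, 1], [3, 1, 6, 5, 1, 6, 3], [1, 6, 1, 5, 4, 1], [4, 3, 1, 6, 1, 5, 4, 1], [3, 1, 6, 1, 5, 2, 1], [6, 1, 5, 6, 1], [6, 5, 4, 1, 5, 6, 1], [3, 1, 6, 4, 2, 1], [6, 5, 1, 6, 3], [3, 6, 4, 1, 5, 4, 1], [2, 1, 6, 5, 4, 2, 1], [6, 4, 1, 5, 4, 1],
  [6, 4, 5, 1, 6, 3], [6, 5, 0, 1, 6, 4, 3], [4, 5, 6, 1, 5, 4, 3], [5, 3, 6, 1, 5, 3, 4], [6, 3, 0, 1, 6, 2, 0, 1], [4, 5, 6, 1, 5, 6, 4, 0, 1], [1, 5, 2, 1, 6, 3, 0, 1], [3, 1, 6, 4, 2, 0, 1], [6, 4, 1, 5, 4, 3, 1], [3, 6, 1, 5, 3, 4, 1], [5, 6, 1, 5, 3, 4], [5, 6, 1, 5, 4, 3],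
  [6, 1], [2, 1, 5, 1, 6, 4, 2, 1], [6, 4, 2, 1], [6, 3, 4, 3, 1], [3, 6, 4, 1], [2, 1, 5, 1, 6, 2, 1], [4, 5, 3, 1, 6, 5, 1], [4, 2, 0, 1, 5, 1, 6, 3, 1], [6, 3, 0, 1, 6, 5, 1], [2, 1, 6, 1, 5, 4, 0, 1], [3, 6, 3, 2, 0, 1, 6, 5, 1], [6, 2, 1, 5, 3, 6, 3, 2, 1],
  [6, 2, 0, 1], [6, 1, 2, 1, 0, 1], [3, 6, 0, 1], [6, 5, 1, 6, 4, 5, 4, 1], [5, 3, 1, 6, 5, 0, 1], [3, 6, 5, 1, 6, 5, 0, 1], [5, 2, 1, 6, 5, 0, 1], [1, 6, 4, 2, 0, 1], [6, 4, 1, 2, 0, 1], [3, 6, 4, 2, 0, 1], [4, 3, 6, 0, 1], [5, 2, 1, 6, 5, 4, 0, 1],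
  [4, 3, 6, 4, 0, 1], [0, 1, 5, 1, 6, 2, 1], [5, 2, 0, 1, 6, 5, 1], [6, 4, 5, 1, 6, 4, 5, 1], [2, 1, 6, 4, 5, 1], [6, 5, 3, 6, 5, 3, 1], [6, 5, 3, 0, 1, 6, 5, 1], [4, 5, 1, 6, 5, 4, 0, 1], [4, 0, 1, 5, 1, 6, 2, 1], [5, 3, 0, 1, 6, 5, 1], [4, 5, 0, 1, 6, 5, 0, 1], [6, 5, 3, 6, 1, 5, 6, 1],
  [4, 5, 3, 4, 1, 5, 6, 1], [1, 6, 2, 1, 5, 3, 6, 2, 1], [6, 3, 2, 1, 6, 1, 5, 2, 1], [5, 3, 4, 2, 1, 5, 6, 1], [4, 2, 1, 5, 1, 6, 3, 1], [1, 6, 3, 1, 6, 5, 1], [6, 1, 5, 3, 6, 2, 1], [3, 6, 3, 1, 6, 5, 1], [6, 4, 3, 1, 6, 5, 1], [2, 1, 6, 4, 5, 1, 6, 3], [5, 4, 2, 1, 5, 1, 6, 2, 1], [2, 1, 6, 0, 1, 5, 4, 1],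
  [1, 5, 2, 1, 6, 4, 5, 2, 1], [2, 0, 1, 6, 1, 5, 4, 1], [1, 5, 4, 2, 1, 5, 6, 1], [1, 6, 4, 1, 5, 4, 1], [5, 4, 5, 2, 1, 6, 5, 0, 1], [2, 1, 6, 1, 5, 4, 1], [1, 6, 1, 5, 3, 4, 1], [2, 1, 6, 1, 5, 4, 3, 1], [3, 2, 1, 6, 1, 5, 3, 4, 1], [4, 5, 1, 6, 5, 0, 1], [3, 6, 1, 5, 6, 3, 1], [5, 6, 1, 5, 6, 4, 3, 1],
  [6, 2, 1, 5, 6, 3, 1], [3, 6, 2, 0, 1, 5, 6, 0, 1], [5, 4, 1, 5, 4, 3], [2, 1, 6, 1, 5, 2, 1], [5, 6, 4, 1, 5, 6, 1], [6, 4, 2, 1, 5, 6, 1], [4, 5, 1, 6, 3, 4], [2, 1, 6, 4, 1, 5, 2, 1], [5, 2, 1, 6, 3, 4], [5, 1, 6, 4, 3], [4, 5, 1, 6, 2, 0, 1], [4, 5, 3, 1, 6, 2, 0, 1],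
  [5, 1, 6, 1, 2, 0, 1], [6, 5, 4, 1, 5, 2, 0, 1], [6, 5, 4, 1, 5, 3, 2, 0, 1], [1, 6, 0, 1, 5, 6, 1], [3, 6, 0, 1, 5, 2, 0, 1], [3, 1, 6, 2, 1], [0, 1, 6, 1, 5, 2, 1], [6, 1, 5, 1, 6, 3, 0, 1], [2, 1, 6, 5, 2, 1], [6, 4, 0, 1, 5, 6, 1], [6, 1, 5, 6, 3, 0, 1], [3, 6, 4, 1, 5, 6, 0, 1],
  [6, 4, 2, 1, 5, 6, 0, 1], [5, 3, 6, 1, 5, 6, 0, 1], [6, 0, 1, 5, 4, 3], [6, 4, 5, 1, 6, 3, 0, 1], [4, 5, 0, 1, 6, 4, 3], [6, 3, 6, 1, 5, 4, 1], [5, 4, 5, 1, 6, 3, 1], [3, 6, 4, 1, 5, 2, 0, 1], [3, 1, 6, 2, 0, 1], [6, 0, 1, 5, 6, 3, 1], [3, 6, 1, 5, 6, 0, 1], [5, 6, 1, 5, 6, 0, 1],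
  [5, 6, 3, 1, 6, 3, 1], [6, 2, 1, 5, 6, 0, 1], [3, 6, 5, 1, 6, 3, 0, 1], [5, 3, 0, 1, 6, 4, 3], [3, 6, 1, 5, 3, 6, 1], [1, 6, 5, 1, 6, 3, 0, 1], [5, 2, 0, 1, 6, 4, 3], [6, 3, 2, 1, 6, 3, 0, 1], [6, 5, 3, 1, 6, 2, 1], [4, 1, 5, 0, 1, 6, 5, 1], [5, 0, 1, 6, 2, 0, 1], [5, 3, 0, 1, 6, 2, 0, 1],
  [1, 5, 3, 1, 6, 5, 1], [1, 5, 0, 1, 6, 5, 1], [4, 5, 3, 1, 6, 2, 1], [4, 5, 0, 1, 6, 2, 1], [5, 3, 1, 6, 4, 2, 1], [4, 5, 1, 6, 2, 1], [3, 4, 1, 5, 6, 1], [5, 4, 2, 1, 5, 6, 1], [2, 1, 5, 0, 1, 6, 3, 1], [5, 3, 4, 1, 5, 6, 1], [4, 5, 4, 1, 5, 6, 1], [4, 1, 5, 0, 1, 6, 3, 1],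
  [1, 6, 5, 1, 6, 4, 3], [3, 6, 4, 3, 1, 6, 5, 1], [1, 6, 0, 1, 5, 4, 1], [1, 5, 3, 6, 5, 1], [6, 5, 0, 1, 6, 3], [6, 5, 4, 1, 5, 4, 3], [3, 2, 1, 6, 5, 2, 1], [6, 4, 0, 1, 5, 4, 1], [6, 5, 1, 6, 4, 3], [5, 4, 3, 1, 6, 3, 1], [4, 5, 1, 6, 3, 4, 1], [6, 3, 1, 6, 2, 0, 1],
  [4, 2, 1, 5, 1, 6, 4, 3, 1], [4, 1, 5, 1, 6, 3, 4, 1], [1, 6, 2, 1, 5, 4, 0, 1], [5, 3, 6, 1, 5, 6, 3, 1], [1, 6, 5, 1, 6, 3, 4], [3, 1, 6, 1, 2, 0, 1], [3, 6, 5, 1, 6, 3, 4], [3, 6, 1, 5, 4, 0, 1], [5, 6, 0, 1, 5, 3, 4], [6, 2, 1, 5, 4, 0, 1], [5, 6, 4, 5, 1, 6, 5, 1], [2, 1, 5, 1, 6, 3, 4, 1],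
  [2, 0, 1, 5, 1, 6, 3, 1], [5, 4, 1, 5, 6, 0, 1], [4, 0, 1, 5, 1, 6, 3, 1], [3, 2, 0, 1, 6, 1, 5, 4, 1], [3, 2, 1, 6, 5, 1, 6, 3], [5, 6, 4, 5, 1, 6, 5, 0, 1], [3, 1, 6, 5, 3, 2, 1], [2, 1, 5, 6, 1, 5, 4], [6, 5, 3, 6, 1, 5, 6, 0, 1], [0, 1, 5, 4, 1], [4, 2, 1, 5, 6, 1, 5, 4], [5, 4, 2, 0, 1, 5, 6, 1],
  [5, 1, 6, 4, 5, 4, 2, 1], [4, 5, 4, 0, 1, 5, 6, 1], [6, 1, 5, 4, 5, 3, 2, 1], [5, 6, 0, 1, 5, 6, 3, 1], [2, 1, 5, 2, 1, 6, 3, 0, 1], [1, 6, 4, 5, 4, 2, 1], [5, 4, 2, 1, 5, 6, 4, 1], [4, 2, 1, 5, 1, 6, 3, 0, 1], [1, 5, 6, 1, 5, 3, 4], [1, 5, 6, 1, 5, 4, 3], [3, 6, 1, 5, 3, 2, 1], [0, 1, 6, 1, 5, 4, 1],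
  [3, 1, 6, 1, 5, 4, 3, 1], [3, 6, 0, 1, 5, 2, 1], [3, 6, 1, 5, 2, 1], [1, 6, 1, 5, 6, 1], [6, 5, 4, 1, 5, 2, 1], [3, 6, 4, 2, 1], [1, 6, 5, 1, 6, 3], [5, 4, 5, 1, 6, 5, 0, 1], [2, 1, 6, 5, 4, 1], [1, 6, 4, 5, 1, 6, 3], [3, 0, 1, 6, 2, 1], [1, 6, 1, 5, 2, 1],
  [3, 6, 4, 1, 5, 6, 1], [2, 0, 1, 6, 5, 2, 1], [6, 4, 1, 5, 6, 1], [1, 6, 4, 1, 5, 2, 1], [1, 6, 4, 2, 1], [1, 6, 5, 4, 2, 1], [2, 1, 5, 6, 4, 1], [2, 1, 6, 4, 5, 4, 2, 1], [6, 1, 5, 4, 3, 1], [3, 1, 6, 1, 5, 3, 2, 1], [6, 4, 1, 5, 3, 4, 1], [3, 6, 1, 5, 4, 3, 1],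
  [6, 3, 1, 6, 4, 2, 0, 1], [1, 6, 2, 0, 1, 5, 3, 4], [6, 3, 1, 6, 5, 3, 2, 1], [6, 2, 1, 5, 3, 6, 3, 1], [5, 6, 1, 5, 6, 4, 0, 1], [6, 3, 1, 6, 5, 0, 1], [3, 1, 6, 1, 5, 3, 4, 1], [3, 0, 1, 6, 2, 0, 1], [6, 1, 5, 3, 4, 1], [6, 3, 1, 6, 2, 1], [6, 2, 1, 5, 3, 6, 1], [6, 2, 1],
  [5, 6, 5, 2, 1], [3, 6, 1], [6, 5, 1, 6, 5, 3, 4, 1], [1, 5, 1, 6, 4, 2, 1], [5, 2, 1, 6, 5, 4, 1], [5, 2, 0, 1, 6, 5, 0, 1], [5, 6, 5, 4, 1], [4, 3, 6, 1], [2, 1, 5, 3, 1, 6, 2, 1], [4, 3, 6, 4, 1], [1, 5, 1, 6, 2, 1], [5, 2, 1, 6, 5, 1],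
  [4, 2, 1, 5, 1, 6, 2, 1], [2, 1, 6, 5, 3, 1], [6, 5, 6, 4, 5, 4, 1], [6, 5, 3, 1, 6, 5, 1], [5, 6, 3, 1, 6, 5, 1], [4, 1, 5, 1, 6, 2, 1], [5, 3, 1, 6, 5, 1], [2, 1, 6, 2, 1, 5, 4, 0, 1], [4, 2, 1, 5, 1, 6, 3, 4, 1], [6, 0, 1, 5, 4, 3, 1], [1, 6, 1, 5, 4, 0, 1], [3, 6, 3, 0, 1, 6, 5, 1],
  [6, 1, 5, 3, 6, 3, 2, 1], [3, 2, 1, 6, 1, 5, 4, 0, 1], [6, 3, 2, 1, 6, 5, 3, 1], [2, 1, 6, 5, 1, 6, 4, 3], [5, 4, 1, 5, 6, 2, 1], [1, 6, 2, 0, 1], [3, 6, 3, 1], [6, 1, 2, 0, 1], [3, 6, 2, 0, 1], [5, 4, 1, 5, 6, 4, 2, 1], [4, 5, 3, 1, 6, 5, 0, 1], [3, 4, 5, 2, 1, 6, 5, 0, 1],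
  [6, 4, 5, 1, 6, 5, 0, 1], [5, 3, 1, 6, 1, 2, 0, 1], [5, 4, 1, 5, 2, 0, 1], [5, 0, 1, 6, 5, 4, 1], [5, 1, 6, 5, 0, 1], [6, 5, 1, 6, 5, 0, 1], [4, 5, 2, 1, 6, 5, 0, 1], [1, 6, 1, 2, 0, 1], [0, 1, 6, 2, 0, 1], [3, 6, 4, 3, 0, 1], [4, 3, 6, 2, 0, 1], [3, 6, 1, 2, 0, 1],
  [5, 4, 3, 4, 0, 1], [5, 1, 6, 5, 4, 0, 1], [5, 3, 2, 0, 1, 6, 5, 1], [6, 5, 1, 6, 5, 4, 0, 1], [5, 1, 2, 1, 0, 1], [3, 6, 5, 2, 1], [5, 0, 1, 6, 5, 1], [4, 5, 2, 0, 1, 6, 5, 1], [2, 1, 6, 4, 5, 2, 1], [1, 6, 4, 5, 1], [4, 2, 1, 5, 6, 2, 1], [3, 2, 1, 6, 4, 5, 1],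
  [2, 1, 6, 5, 1], [4, 2, 1, 5, 6, 2, 0, 1], [6, 1, 5, 3, 2, 0, 1], [5, 4, 2, 1, 5, 4, 0, 1], [6, 4, 3, 6, 4, 3, 1], [6, 3, 6, 3, 2, 1], [6, 5, 3, 6, 5, 1], [5, 4, 5, 1, 2, 0, 1], [1, 6, 5, 3, 1, 6, 2, 1], [4, 5, 0, 1, 6, 5, 1], [4, 5, 2, 0, 1, 6, 5, 0, 1], [4, 5, 1, 6, 5, 4, 1],
  [5, 0, 1, 6, 5, 0, 1], [2, 1, 5, 6, 1, 5, 3, 4], [5, 2, 1, 6, 4, 5, 4, 2, 1], [5, 3, 1, 6, 1, 5, 2, 1], [4, 5, 4, 2, 1, 5, 6, 1], [5, 4, 1, 5, 1, 6, 2, 1], [2, 1, 6, 5, 1, 6, 3], [5, 4, 0, 1], [3, 4, 5, 6, 1], [6, 3, 2, 1, 6, 5, 0, 1], [1, 6, 1, 5, 4, 3, 1], [3, 2, 1, 6, 1, 5, 4, 3, 1],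
  [3, 4, 5, 1, 6, 5, 0, 1], [4, 1, 5, 1, 6, 2, 0, 1], [2, 1, 5, 6, 3, 2, 0, 1], [6, 1, 5, 6, 0, 1], [6, 0, 1, 5, 6, 0, 1], [6, 1, 5, 6, 3, 1], [3, 6, 0, 1, 5, 6, 0, 1], [2, 1, 6, 1, 5, 3, 2, 1], [1, 5, 6, 4, 1, 5, 6, 1], [5, 6, 0, 1, 5, 6, 0, 1], [4, 5, 4, 1, 5, 4, 3], [6, 2, 0, 1, 5, 6, 0, 1],
  [5, 4, 2, 1, 5, 4, 3], [5, 3, 1, 6, 4, 3], [6, 1, 5, 4, 3], [4, 5, 2, 1, 6, 3, 4], [4, 5, 1, 6, 4, 3], [4, 5, 3, 1, 6, 4, 3], [4, 3, 6, 1, 5, 4, 3], [3, 6, 1, 5, 6, 4, 1], [1, 5, 2, 1, 6, 3, 4], [5, 2, 1, 6, 4, 3], [5, 6, 3, 1, 6, 2, 0, 1], [5, 1, 6, 2, 0, 1],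
  [5, 3, 1, 6, 2, 0, 1], [6, 4, 1, 5, 1, 2, 0, 1], [3, 6, 1, 5, 2, 0, 1], [3, 6, 2, 1], [6, 4, 0, 1, 5, 2, 0, 1], [3, 6, 1, 5, 3, 2, 0, 1], [6, 0, 1, 5, 2, 0, 1], [1, 6, 2, 1], [1, 6, 3, 0, 1], [1, 6, 5, 2, 1], [2, 1, 5, 6, 1], [6, 4, 1, 5, 6, 3, 1],
  [6, 4, 1, 5, 6, 0, 1], [3, 1, 6, 1, 5, 2, 0, 1], [6, 4, 0, 1, 5, 4, 3], [5, 6, 1, 5, 4, 0, 1], [6, 0, 1, 5, 3, 4], [3, 6, 0, 1, 5, 4, 3], [5, 4, 5, 1, 6, 4, 3], [5, 4, 1, 5, 3, 2, 0, 1], [1, 5, 6, 4, 0, 1], [5, 1, 6, 3, 6, 4, 2, 1], [6, 5, 3, 1, 6, 3, 1], [6, 3, 0, 1, 6, 4, 3],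
  [5, 6, 4, 1, 5, 4, 1], [6, 5, 4, 1, 5, 4, 1], [6, 4, 1, 5, 2, 0, 1], [3, 6, 1, 5, 1, 2, 0, 1], [1, 6, 3, 1], [1, 6, 1, 5, 2, 0, 1], [6, 5, 3, 6, 1, 5, 4], [3, 6, 0, 1, 5, 3, 4], [4, 5, 4, 1, 5, 2, 0, 1], [4, 1, 5, 4, 3, 1], [6, 4, 5, 3, 1, 6, 3, 1], [2, 1, 6, 1, 5, 3, 6, 1],
  [1, 6, 2, 1, 5, 3, 6, 1], [3, 6, 3, 1, 6, 5, 2, 1], [6, 1, 5, 3, 6, 1], [6, 1, 5, 0, 1, 6, 3, 1], [4, 5, 4, 1, 5, 1, 2, 0, 1], [1, 5, 2, 0, 1, 6, 4, 3], [1, 6, 3, 6, 5, 1], [6, 3, 1, 6, 3, 0, 1], [1, 5, 4, 5, 4, 2, 1], [5, 4, 5, 2, 1, 6, 3], [1, 6, 5, 6, 4, 5, 1], [4, 5, 1, 6, 4, 2, 1],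
  [5, 3, 0, 1, 6, 2, 1], [0, 1, 5, 4, 3, 1], [3, 1, 6, 5, 2, 1], [5, 3, 1, 6, 2, 1], [1, 5, 1, 6, 5, 1], [1, 5, 4, 1, 5, 2, 1], [4, 1, 5, 1, 6, 5, 1], [5, 0, 1, 6, 2, 1], [5, 1, 6, 4, 2, 1], [5, 1, 6, 2, 1], [3, 4, 2, 1, 5, 6, 1], [4, 1, 5, 3, 6, 1],
  [4, 1, 5, 6, 1], [5, 6, 4, 5, 1, 6, 3], [6, 3, 1, 6, 5, 3, 1], [5, 3, 6, 5, 1], [3, 2, 1, 6, 5, 1], [1, 5, 6, 5, 1], [2, 1, 5, 3, 6, 1], [6, 4, 1, 5, 4, 0, 1], [6, 4, 5, 1, 6, 4, 3], [6, 3, 1, 6, 1, 2, 0, 1], [3, 6, 3, 1, 6, 2, 0, 1], [1, 5, 4, 1],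
  [5, 6, 1, 5, 6, 3, 1], [6, 1, 5, 6, 3, 4, 1], [6, 2, 1, 5, 6, 4, 3, 1], [5, 6, 1, 5, 3, 6, 0, 1], [3, 1, 6, 1, 5, 4, 0, 1], [6, 1, 5, 4, 0, 1], [6, 3, 0, 1, 6, 2, 1], [5, 1, 6, 1, 5, 2, 1], [1, 5, 6, 3, 4, 1], [5, 4, 2, 1, 5, 6, 0, 1], [3, 6, 2, 1, 5, 3, 4], [3, 6, 5, 3, 2, 1],
  [5, 3, 4, 0, 1], [1, 5, 3, 6, 3, 1], [4, 0, 1, 5, 4, 1], [3, 2, 1, 6, 5, 3, 2, 1], [1, 6, 5, 3, 2, 1], [1, 6, 5, 4, 2, 0, 1], [2, 0, 1, 5, 4, 1], [5, 0, 1, 6, 3], [1, 5, 4, 0, 1], [4, 5, 4, 2, 0, 1, 5, 6, 1], [5, 3, 6, 1, 5, 4, 0, 1], [6, 2, 0, 1, 5, 3, 4],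
  [6, 5, 4, 1, 5, 6, 0, 1], [5, 6, 4, 1, 5, 6, 0, 1], [3, 6, 2, 1, 5, 6, 4, 0, 1], [6, 4, 5, 4, 2, 1], [4, 1, 5, 6, 4, 1], [4, 0, 1, 5, 6, 1], [1, 6, 3, 1, 6, 2, 1], [6, 1, 5, 3, 2, 1], [5, 6, 4, 1, 5, 2, 1], [2, 0, 1, 6, 5, 4, 1], [6, 0, 1, 5, 2, 1], [6, 5, 4, 1, 5, 3, 2, 1],
  [4, 3, 6, 2, 1], [6, 1, 5, 2, 1], [4, 3, 6, 1, 5, 2, 1], [3, 2, 1, 6, 5, 4, 1], [1, 6, 4, 1, 5, 6, 1], [6, 4, 1, 5, 2, 1], [1, 6, 5, 4, 1], [2, 1, 5, 6, 4, 2, 1], [2, 1, 6, 4, 5, 4, 1], [0, 1, 6, 2, 1], [1, 6, 4, 3, 1], [0, 1, 6, 5, 2, 1],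
  [2, 0, 1, 5, 6, 1], [2, 1, 5, 6, 3, 0, 1], [6, 5, 4, 2, 1], [1, 5, 6, 4, 1], [4, 2, 1, 5, 6, 4, 1], [4, 2, 0, 1, 5, 6, 1], [4, 5, 1, 6, 1, 5, 2, 1], [1, 6, 1, 5, 3, 2, 1], [1, 5, 6, 4, 1, 5, 2, 1], [2, 1, 5, 3, 6, 0, 1], [1, 5, 6, 1, 5, 4, 0, 1], [3, 6, 3, 1, 6, 1, 2, 0, 1],
  [6, 4, 1, 5, 4, 2, 0, 1], [6, 3, 1, 6, 5, 2, 1], [6, 1, 5, 3, 6, 3, 1], [1, 6, 1, 5, 4, 2, 0, 1], [6, 2, 1, 5, 6, 4, 0, 1], [1, 6, 2, 1, 5, 6, 4, 0, 1], [6, 3, 1, 6, 4, 2, 1], [6, 1, 5, 3, 6, 5, 1], [3, 6, 3, 1, 6, 2, 1], [5, 6, 0, 1, 5, 6, 1], [6, 4, 2, 1, 5, 3, 6, 1], [1, 5, 1, 6, 3, 2, 1],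
  [3, 6, 3, 0, 1], [5, 6, 5, 1], [5, 1, 6, 5, 4, 3, 1], [4, 1, 5, 1, 6, 4, 2, 1], [6, 5, 1, 6, 5, 4, 3, 1], [1, 6, 5, 3, 1, 6, 5, 1], [5, 4, 0, 1, 5, 2, 0, 1], [5, 1, 6, 5, 4, 1], [6, 5, 0, 1, 6, 5, 0, 1], [3, 6, 4, 3, 1], [5, 4, 3, 4, 1], [1, 5, 3, 1, 6, 2, 1],
  [5, 3, 2, 1, 6, 5, 1], [6, 1, 5, 3, 1, 6, 2, 1], [6, 5, 6, 2, 1], [3, 6, 5, 2, 0, 1], [5, 1, 6, 5, 1], [4, 5, 2, 1, 6, 5, 1], [2, 1, 6, 5, 3, 2, 1], [1, 6, 5, 3, 1], [2, 1, 5, 6, 3, 2, 1], [3, 2, 1, 6, 5, 3, 1], [2, 0, 1, 6, 5, 1], [6, 1, 5, 1, 2, 0, 1],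
  [5, 4, 5, 3, 4, 3, 1], [5, 4, 5, 4, 2, 1], [6, 3, 6, 1, 2, 0, 1], [6, 5, 6, 4, 5, 1], [4, 5, 1, 6, 5, 1], [5, 4, 1], [5, 6, 3, 4, 1], [5, 1, 6, 5, 4, 5, 2, 1], [6, 5, 0, 1, 6, 5, 1], [5, 1, 6, 4, 5, 1], [5, 4, 3, 1, 6, 5, 1], [4, 5, 4, 1, 5, 6, 2, 1],
  [6, 4, 3, 6, 1], [3, 1, 6, 3, 1], [3, 6, 3, 2, 1], [4, 3, 6, 4, 3, 1], [6, 3, 1], [4, 3, 6, 3, 1], [5, 3, 1, 6, 3, 2, 0, 1], [5, 1, 6, 4, 5, 4, 1], [3, 6, 5, 1, 6, 5, 3, 0, 1], [1, 5, 1, 6, 3, 2, 0, 1], [5, 6, 3, 1, 6, 5, 0, 1], [6, 3, 6, 4, 1],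
  [5, 4, 3, 1], [5, 4, 1, 5, 1, 2, 0, 1], [1, 5, 1, 6, 2, 0, 1], [5, 0, 1], [3, 4, 5, 0, 1], [3, 0, 1, 6, 3, 1], [6, 5, 4, 5, 1], [5, 6, 4, 5, 1], [6, 4, 3, 0, 1], [4, 3, 6, 4, 3, 0, 1], [5, 3, 1, 2, 0, 1], [5, 3, 0, 1],
  [3, 4, 5, 3, 0, 1], [5, 1, 2, 0, 1], [3, 6, 5, 1], [5, 3, 6, 1], [6, 5, 2, 1], [5, 4, 1, 5, 2, 1], [1, 6, 4, 5, 2, 1], [4, 2, 1, 5, 6, 1], [4, 2, 1, 5, 3, 6, 1], [4, 2, 1, 5, 6, 0, 1], [6, 4, 5, 1], [6, 5, 1, 6, 5, 1],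
  [4, 1, 5, 6, 2, 1], [3, 1, 6, 4, 5, 1], [1, 6, 5, 1], [2, 1, 6, 4, 5, 0, 1], [4, 3, 2, 1, 6, 5, 1], [2, 1, 5, 6, 2, 1], [2, 1, 5, 3, 6, 2, 1], [4, 1, 5, 6, 2, 0, 1], [2, 1, 6, 5, 4, 3, 1], [2, 1, 5, 6, 2, 0, 1], [6, 4, 1, 5, 3, 2, 1], [5, 4, 1, 5, 4, 0, 1],
  [1, 6, 3, 6, 3, 2, 1], [1, 6, 5, 3, 6, 5, 1], [6, 3, 6, 2, 1, 5, 4], [0, 1, 6, 3, 6, 3, 1], [3, 6, 3, 2, 0, 1], [6, 3, 6, 3, 1], [6, 4, 3, 6, 4, 1], [6, 3, 6, 4, 3, 1], [6, 3, 6, 2, 1], [5, 4, 5, 2, 0, 1], [6, 3, 6, 4, 2, 1], [6, 4, 3, 6, 2, 1],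
  [5, 3, 1, 6, 5, 4, 1], [5, 3, 4, 3, 0, 1], [3, 4, 5, 1], [3, 6, 5, 0, 1], [5, 3, 6, 1, 5, 6, 1], [3, 4, 5, 6, 1, 5, 6, 1], [5, 4, 2, 0, 1], [4, 5, 4, 0, 1], [4, 3, 6, 5, 1], [4, 5, 3, 6, 1], [4, 5, 6, 1], [5, 3, 4, 1],
  [1, 5, 6, 3, 2, 0, 1], [2, 1, 6, 5, 3, 0, 1], [4, 2, 1, 5, 6, 4, 2, 1], [0, 1, 6, 3, 1], [6, 4, 1, 5, 4, 3], [3, 6, 1, 5, 3, 4], [4, 5, 4, 1, 5, 2, 1], [4, 0, 1, 5, 4, 3, 1], [5, 3, 2, 1, 6, 4, 3], [6, 2, 1, 5, 4, 3], [6, 1, 5, 3, 4], [3, 6, 1, 5, 4, 3],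
  [3, 6, 3, 1, 6, 3, 1], [5, 4, 1, 5, 3, 2, 1], [1, 5, 3, 6, 0, 1], [4, 5, 2, 1, 6, 4, 3], [6, 5, 3, 0, 1, 6, 3, 1], [6, 3, 1, 6, 4, 3], [5, 6, 4, 0, 1, 5, 4, 1], [3, 6, 4, 1, 5, 4, 3], [6, 2, 1, 5, 4, 3, 2, 1], [3, 1, 6, 1, 5, 4, 2, 1], [6, 1, 5, 6, 4, 1], [6, 5, 4, 1, 5, 6, 4, 1],
  [6, 3, 6, 1, 5, 2, 1], [1, 5, 2, 1, 6, 4, 3], [4, 5, 1, 6, 3], [1, 5, 4, 3, 1], [6, 1, 5, 2, 0, 1], [6, 3, 0, 1], [6, 4, 0, 1, 5, 2, 1], [3, 1, 6, 3, 0, 1], [2, 1, 6, 3, 0, 1], [0, 1, 6, 3, 4, 1], [1, 5, 6, 1], [2, 0, 1, 5, 6, 0, 1],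
  [4, 5, 6, 1, 5, 4, 0, 1], [6, 4, 1, 5, 1, 6, 3, 1], [2, 1, 5, 3, 4, 5, 1], [1, 5, 3, 4, 5, 2, 1], [4, 5, 4, 1, 5, 4, 1], [2, 1, 5, 4, 5, 2, 1], [5, 4, 5, 1, 6, 3], [5, 6, 4, 0, 1], [2, 1, 5, 6, 4, 0, 1], [0, 1, 5, 6, 0, 1], [5, 3, 6, 4, 1, 5, 4, 1], [2, 1, 6, 3, 1],
  [6, 1, 5, 4], [6, 0, 1, 5, 1, 6, 3, 1], [4, 5, 4, 3, 1], [4, 2, 1, 5, 4, 3, 1], [4, 1, 5, 3, 4, 1], [4, 1, 5, 4, 1], [6, 5, 4, 1, 5, 4, 2, 0, 1], [1, 6, 1, 5, 3, 6, 1], [6, 5, 1, 6, 5, 3, 6, 1], [6, 1, 2, 0, 1, 5, 4, 1], [5, 3, 6, 0, 1, 5, 6, 1], [5, 6, 3, 4, 1, 5, 6, 1],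
  [3, 6, 4, 1, 5, 3, 6, 1], [6, 4, 1, 5, 3, 6, 1], [6, 3, 4, 1, 5, 6, 1], [6, 3, 6, 5, 1], [2, 1, 6, 3, 6, 5, 1], [4, 1, 5, 4, 0, 1], [6, 1, 5, 4, 5, 4, 1], [5, 1, 6, 3, 6, 3, 2, 1], [5, 4, 1, 5, 4, 3, 1], [1, 6, 1, 5, 4, 5, 1], [1, 6, 3, 6, 2, 0, 1], [1, 5, 4, 5, 2, 1],
  [1, 5, 4, 5, 3, 2, 1], [2, 0, 1, 5, 4, 3, 1], [1, 5, 3, 6, 1], [5, 1, 6, 3], [3, 1, 6, 5, 2, 0, 1], [3, 2, 0, 1, 6, 5, 1], [3, 1, 6, 5, 1], [2, 1, 5, 4, 1], [1, 5, 3, 4, 1], [6, 1, 5, 6, 1, 5, 4], [1, 5, 6, 1, 5, 6, 1], [4, 5, 6, 1, 5, 6, 3, 1],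
  [6, 1, 5, 4, 3, 2, 1], [1, 6, 1, 5, 4, 2, 1], [6, 1, 5, 6, 4, 3, 1], [6, 3, 1, 6, 5, 2, 0, 1], [6, 2, 1, 5, 3, 6, 0, 1], [4, 1, 5, 6, 1, 5, 6, 1], [1, 6, 2, 1, 5, 3, 4], [5, 6, 1, 5, 6, 1], [1, 5, 6, 4, 3, 1], [2, 1, 5, 6, 3, 4, 1], [4, 1, 5, 6, 0, 1], [3, 6, 2, 1, 5, 4, 3],
  [6, 2, 1, 5, 3, 4], [6, 5, 6, 3, 1], [5, 3, 6, 3, 1], [4, 5, 3, 4, 0, 1], [3, 6, 5, 3, 1], [6, 5, 3, 2, 1], [6, 5, 4, 2, 0, 1], [5, 3, 4, 2, 0, 1], [5, 4, 3, 0, 1], [2, 1, 5, 3, 6, 3, 1], [1, 5, 6, 3, 1], [5, 1, 6, 3, 6, 2, 1],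
  [2, 1, 6, 5, 4, 2, 0, 1], [4, 1, 5, 6, 3, 1], [1, 2, 0, 1, 5, 4, 1], [5, 2, 0, 1, 6, 3], [2, 1, 5, 4, 0, 1], [3, 6, 1, 5, 4], [6, 4, 2, 1, 5, 4, 2, 0, 1], [3, 6, 1, 5, 6, 4, 0, 1], [6, 4, 5, 4, 1], [4, 5, 6, 4, 1], [6, 5, 3, 2, 0, 1], [1, 5, 6, 3, 0, 1],
  [0, 1, 5, 6, 1], [6, 4, 2, 1, 5, 4, 3], [0, 1, 6, 5, 4, 1], [3, 2, 1, 6, 5, 0, 1], [2, 1, 6, 5, 3, 4, 1], [6, 4, 3, 1], [3, 1, 6, 5, 4, 1], [2, 0, 1, 6, 5, 0, 1], [6, 5, 4, 1], [1, 5, 3, 6, 2, 1], [1, 5, 6, 4, 2, 1], [1, 6, 4, 5, 4, 1],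
  [3, 1, 6, 4, 3, 1], [2, 1, 6, 4, 3, 1], [1, 6, 3, 4, 1], [5, 4, 3, 6, 1], [5, 6, 4, 1], [2, 1, 5, 6, 3, 1], [6, 4, 1, 5, 6, 4, 1], [4, 5, 6, 1, 5, 6, 1], [5, 6, 4, 1, 5, 6, 4, 1], [2, 1, 5, 6, 0, 1], [3, 2, 1, 6, 5, 2, 0, 1], [2, 1, 5, 6, 4, 3, 1],
  [4, 3, 0, 1, 6, 3, 1], [1, 6, 3, 1, 6, 5, 2, 1], [1, 6, 1, 5, 3, 6, 3, 1], [6, 1, 5, 4, 2, 0, 1], [6, 1, 5, 6, 4, 0, 1], [4, 3, 2, 1, 6, 3, 1], [3, 1, 6, 1, 5, 4, 2, 0, 1], [1, 6, 2, 1, 5, 4, 3], [5, 4, 5, 1, 6, 2, 1], [4, 5, 6, 0, 1, 5, 6, 1], [5, 6, 4, 1, 5, 3, 6, 1], [5, 1, 6, 3, 2, 1],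
  [5, 1, 6, 5, 3, 1], [1, 5, 3, 1, 6, 3, 2, 1], [4, 1, 5, 1, 6, 3, 2, 1], [5, 4, 5, 3, 1], [5, 0, 1, 6, 3, 2, 1], [5, 1, 6, 5, 3, 4, 1], [5, 2, 1, 6, 5, 4, 3, 1], [5, 4, 1, 5, 6, 2, 0, 1], [5, 1, 6, 5, 1, 6, 3], [5, 3, 4, 5, 1], [5, 1], [5, 6, 4, 5, 0, 1],
  [5, 3, 1], [3, 4, 5, 3, 1], [6, 5, 6, 1], [5, 3, 6, 0, 1], [6, 5, 2, 0, 1], [5, 4, 0, 1, 5, 2, 1], [6, 5, 3, 1], [1, 5, 6, 3, 2, 1], [3, 1, 6, 5, 3, 1], [0, 1, 6, 5, 1], [2, 1, 5, 3, 6, 3, 2, 1], [2, 0, 1, 5, 6, 2, 1],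
  [2, 1, 6, 5, 4, 0, 1], [0, 1, 5, 4, 5, 4, 1], [5, 4, 5, 4, 1], [5, 4, 5, 3, 4, 1], [5, 3, 4, 5, 3, 1], [6, 3, 6, 2, 0, 1], [5, 4, 5, 2, 1], [5, 3, 4, 5, 2, 1], [5, 4, 5, 3, 2, 1], [5, 3, 4, 3, 1], [5, 4, 2, 1], [4, 5, 4, 1],
  [6, 5, 4, 3, 1], [5, 6, 4, 3, 1], [4, 5, 6, 0, 1], [5, 6, 1, 5, 6, 4, 5, 1], [1, 5, 1, 6, 4, 5, 1], [5, 0, 1, 6, 3, 2, 0, 1], [1, 6, 4, 3, 6, 1], [6, 4, 5, 0, 1, 6, 5, 1], [5, 2, 1, 6, 4, 5, 1], [3, 6, 5, 0, 1, 6, 5, 1], [5, 3, 1, 6, 4, 5, 1], [4, 5, 1, 6, 4, 5, 1],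
  [5, 1, 6, 0, 1, 5, 4, 1], [6, 3, 6, 1], [4, 5, 3, 1, 6, 4, 5, 1], [3, 2, 1, 6, 3, 1], [4, 3, 1, 6, 3, 1], [3, 1, 6, 3, 2, 1], [5, 3, 6, 5, 3, 1], [6, 3, 2, 1], [4, 3, 6, 3, 2, 1], [6, 4, 3, 4, 1], [6, 3, 4, 1], [1, 5, 1, 6, 4, 5, 4, 1],
  [5, 3, 2, 1, 6, 3, 2, 0, 1], [5, 1, 6, 3, 2, 0, 1], [1, 6, 3, 6, 4, 1], [4, 5, 1], [4, 5, 3, 1], [5, 2, 1, 6, 4, 5, 4, 1], [5, 1, 6, 5, 3, 0, 1], [5, 0, 1, 6, 1, 5, 4, 1], [5, 4, 3, 2, 1], [6, 5, 0, 1, 6, 5, 4, 1], [4, 5, 3, 2, 0, 1], [6, 5, 1, 6, 5, 3, 0, 1],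
  [4, 1, 5, 1, 6, 3, 2, 0, 1], [4, 5, 1, 6, 5, 3, 0, 1], [5, 4, 5, 0, 1], [5, 4, 3, 2, 0, 1], [5, 2, 0, 1], [4, 5, 0, 1], [3, 4, 5, 2, 0, 1], [4, 5, 3, 0, 1], [1, 6, 5, 4, 5, 1], [6, 1, 5, 4, 5, 2, 1], [6, 5, 4, 5, 2, 1], [6, 3, 4, 0, 1],
  [1, 5, 6, 4, 5, 1], [5, 6, 4, 5, 4, 1], [6, 4, 3, 2, 0, 1], [6, 4, 3, 4, 0, 1], [0, 1, 5, 2, 0, 1], [5, 3, 2, 0, 1], [4, 5, 1, 2, 0, 1], [1, 5, 1, 2, 0, 1], [1, 5, 3, 2, 1], [5, 3, 6, 2, 1], [6, 5, 1], [5, 1, 6, 4, 5, 6, 1],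
  [5, 6, 1], [6, 4, 5, 2, 1], [2, 0, 1, 5, 6, 3, 1], [6, 4, 5, 0, 1], [1, 6, 5, 1, 6, 5, 1], [4, 5, 6, 2, 1], [3, 6, 4, 5, 1], [6, 1, 5, 1, 6, 2, 1], [3, 6, 5, 1, 6, 5, 1], [6, 4, 5, 1, 6, 5, 1], [4, 5, 2, 0, 1], [4, 3, 1, 6, 5, 1],
  [1, 5, 6, 2, 1], [6, 4, 5, 3, 0, 1], [1, 6, 4, 5, 0, 1], [2, 1, 6, 5, 0, 1], [4, 5, 6, 2, 0, 1], [1, 6, 5, 4, 3, 1], [1, 5, 6, 2, 0, 1], [5, 1, 6, 3, 6, 3, 1], [6, 4, 3, 1, 6, 3, 1], [5, 1, 6, 3, 6, 5, 1], [6, 3, 6, 1, 5, 4], [1, 6, 3, 6, 2, 1],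
  [1, 5, 4, 5, 2, 0, 1], [1, 6, 3, 6, 4, 2, 1], [1, 6, 4, 3, 6, 2, 1], [1, 6, 3, 6, 3, 1], [3, 1, 6, 3, 2, 0, 1], [0, 1, 6, 3, 6, 1], [0, 1, 5, 4, 5, 0, 1], [6, 3, 2, 0, 1], [5, 4, 1, 2, 0, 1], [4, 5, 3, 4, 3, 0, 1], [3, 4, 5, 2, 1], [3, 1, 6, 5, 0, 1],
  [5, 3, 6, 2, 0, 1], [6, 5, 0, 1], [5, 6, 4, 2, 0, 1], [1, 5, 4, 2, 0, 1], [4, 5, 4, 2, 0, 1], [1, 5, 2, 1], [5, 3, 4, 2, 1], [4, 5, 3, 4, 1], [5, 6, 3, 2, 0, 1], [1, 6, 5, 3, 0, 1], [4, 1, 5, 6, 4, 2, 1], [2, 0, 1, 6, 3, 1],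
  [6, 0, 1, 5, 4], [6, 1, 5, 1, 6, 3, 1], [2, 1, 6, 3, 6, 4, 1], [6, 3, 6, 1, 5, 3, 4], [6, 3, 1, 6, 3, 1], [1, 5, 6, 0, 1], [6, 3, 2, 1, 6, 4, 3], [6, 2, 1, 5, 4, 2, 1], [3, 6, 1, 5, 4, 2, 1], [1, 6, 1, 5, 6, 4, 1], [6, 5, 4, 1, 5, 4, 2, 1], [3, 6, 4, 1, 5, 6, 4, 1],
  [1, 6, 4, 1, 5, 4, 2, 1], [4, 5, 3, 4, 3, 1], [4, 5, 2, 1, 6, 3], [2, 1, 5, 4, 3, 1], [3, 2, 1, 6, 3, 0, 1], [2, 1, 6, 3, 2, 0, 1], [2, 0, 1, 6, 3, 4, 1], [4, 2, 1, 5, 6, 3, 1], [6, 4, 2, 1, 5, 4, 2, 1], [3, 6, 1, 5, 3, 6, 0, 1], [2, 1, 5, 4, 5, 3, 1], [1, 5, 3, 4, 5, 1],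
  [2, 1, 5, 4, 5, 1], [1, 5, 4, 5, 1, 6, 3], [5, 4, 1, 5, 4, 1], [5, 3, 6, 4, 0, 1], [2, 1, 6, 3, 2, 1], [6, 2, 1, 5, 4], [4, 5, 4, 3, 2, 1], [5, 4, 1, 5, 4, 2, 1], [4, 2, 1, 5, 3, 4, 1], [4, 2, 1, 5, 4, 1], [3, 6, 1, 5, 4, 2, 0, 1], [6, 1, 5, 3, 4, 2, 0, 1],
  [6, 1, 5, 2, 0, 1, 6, 3], [6, 1, 5, 4, 3, 2, 0, 1], [5, 6, 2, 1], [6, 3, 6, 5, 2, 1], [5, 1, 6, 5, 3, 6, 1], [4, 2, 1, 5, 4, 0, 1], [5, 1, 6, 3, 6, 0, 1], [5, 4, 1, 5, 4, 2, 0, 1], [6, 1, 5, 4, 5, 1], [2, 1, 5, 4, 1, 2, 0, 1], [5, 2, 1, 6, 3], [1, 6, 5, 2, 0, 1],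
  [3, 0, 1, 6, 5, 1], [2, 1, 5, 4, 2, 1], [2, 1, 5, 3, 4, 1], [5, 6, 1, 5, 4, 2, 1], [6, 1, 5, 4, 2, 1], [6, 1, 5, 3, 4, 2, 1], [6, 4, 1, 5, 4, 3, 2, 1], [6, 1, 5, 3, 6, 0, 1], [6, 1, 5, 4, 5, 4, 2, 1], [0, 1, 5, 2, 1], [0, 1, 5, 6, 3, 1], [5, 3, 2, 1],
  [1, 5, 2, 0, 1], [5, 3, 6, 3, 2, 1], [5, 6, 3, 1], [6, 5, 3, 6, 1], [6, 5, 4, 0, 1], [4, 5, 6, 3, 1], [1, 5, 3, 4, 2, 0, 1], [5, 1, 6, 4, 5, 0, 1], [2, 1, 6, 5, 3, 6, 1], [1, 5, 2, 0, 1, 6, 3], [2, 1, 5, 4, 2, 0, 1], [3, 6, 2, 1, 5, 4],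
  [3, 2, 1, 6, 4, 3, 1], [6, 2, 1, 5, 4, 2, 0, 1], [4, 5, 6, 4, 2, 1], [6, 5, 3, 0, 1], [5, 6, 3, 0, 1], [5, 3, 6, 4, 1], [1, 6, 5, 4, 0, 1], [1, 6, 5, 3, 4, 1], [6, 4, 3, 2, 1], [3, 6, 5, 4, 1], [0, 1, 6, 5, 0, 1], [5, 6, 4, 2, 1],
  [2, 1, 6, 4, 3, 2, 1], [2, 1, 6, 3, 4, 1], [1, 6, 4, 1, 5, 6, 4, 1], [2, 1, 6, 5, 2, 0, 1], [6, 1, 5, 4, 1, 2, 0, 1], [6, 3, 1, 6, 3, 2, 1], [5, 2, 1, 6, 3, 2, 1], [1, 5, 1, 6, 5, 3, 1], [5, 3, 1, 6, 3, 2, 1], [4, 5, 1, 6, 3, 2, 1], [1, 5, 4, 5, 3, 1], [5, 3, 1, 6, 5, 3, 1],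
  [4, 5, 1, 6, 5, 3, 1], [5, 6, 3, 1, 6, 5, 3, 1], [6, 3, 6, 0, 1], [4, 5, 3, 1, 6, 5, 3, 1], [5, 1, 6, 4, 3, 2, 1], [6, 5, 1, 6, 4, 3, 2, 1], [5, 3, 0, 1, 6, 3, 2, 1], [6, 5, 1, 6, 3, 2, 1], [5, 2, 1, 6, 5, 3, 4, 1], [5, 1, 6, 1, 5, 4, 1], [6, 4, 1, 5, 1, 6, 2, 1], [4, 5, 3, 2, 1],
  [6, 5, 1, 6, 4, 5, 0, 1], [6, 5, 1, 6, 5, 4, 1], [5, 3, 1, 6, 1, 5, 4, 1], [4, 5, 1, 6, 4, 5, 0, 1], [5, 4, 5, 1], [5, 2, 1], [1, 5, 6, 4, 5, 0, 1], [6, 4, 5, 6, 1], [1, 6, 5, 6, 1], [5, 6, 0, 1], [6, 4, 5, 2, 0, 1], [5, 6, 3, 2, 1],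
  [6, 4, 5, 3, 1], [4, 5, 2, 1], [1, 5, 3, 6, 3, 2, 1], [0, 1, 5, 6, 2, 1], [1, 5, 4, 5, 4, 1], [0, 1, 6, 3, 6, 0, 1], [0, 1, 5, 4, 5, 1], [6, 5, 6, 4, 1], [1, 5, 4, 2, 1], [4, 5, 4, 2, 1], [6, 5, 3, 4, 1], [1, 6, 3, 6, 1],
  [2, 1, 5, 1, 6, 4, 5, 1], [5, 1, 6, 2, 0, 1, 5, 4], [5, 1, 6, 4, 3, 2, 0, 1], [5, 1, 2, 0, 1, 6, 3, 1], [2, 1, 6, 4, 3, 6, 1], [1, 5, 2, 1, 6, 4, 5, 1], [6, 5, 3, 1, 6, 4, 5, 1], [5, 3, 2, 1, 6, 4, 5, 1], [6, 5, 4, 3, 1, 6, 5, 1], [6, 3, 4, 2, 0, 1], [3, 2, 1, 6, 3, 2, 1], [3, 0, 1, 6, 3, 2, 1],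
  [1, 5, 3, 6, 5, 3, 1], [1, 6, 3, 2, 1], [5, 6, 5, 3, 1], [6, 3, 4, 2, 1], [1, 5, 4, 3, 2, 1], [5, 6, 3, 1, 6, 3, 2, 0, 1], [5, 1, 6, 3, 1, 2, 0, 1], [5, 2, 1, 6, 3, 2, 0, 1], [4, 5, 1, 6, 3, 2, 0, 1], [1, 5, 4, 5, 0, 1], [6, 5, 3, 1, 6, 5, 0, 1], [5, 2, 1, 6, 5, 3, 0, 1],
  [4, 1, 5, 3, 2, 0, 1], [4, 5, 2, 1, 6, 5, 3, 0, 1], [3, 6, 1, 5, 1, 6, 2, 1], [1, 5, 2, 1, 6, 5, 3, 0, 1], [1, 5, 4, 3, 2, 0, 1], [4, 0, 1, 5, 2, 0, 1], [2, 1, 6, 5, 4, 5, 1], [2, 1, 5, 6, 4, 5, 1], [1, 6, 5, 4, 5, 2, 1], [1, 5, 6, 4, 5, 4, 1], [1, 6, 4, 3, 2, 0, 1], [6, 3, 1, 2, 0, 1],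
  [6, 5, 3, 6, 0, 1], [1, 5, 3, 2, 0, 1], [4, 1, 5, 1, 2, 0, 1], [4, 1, 5, 3, 2, 1], [3, 1, 6, 5, 1, 6, 5, 1], [4, 1, 5, 2, 0, 1], [4, 3, 6, 5, 1, 6, 5, 1], [6, 5, 3, 1, 6, 5, 3, 1], [1, 6, 5, 0, 1], [5, 6, 2, 0, 1], [6, 1, 5, 4, 5, 0, 1], [5, 1, 6, 3, 6, 1],
  [1, 6, 3, 6, 1, 5, 4], [2, 1, 6, 3, 6, 2, 1], [3, 2, 1, 6, 3, 2, 0, 1], [1, 6, 3, 2, 0, 1], [1, 5, 4, 1, 2, 0, 1], [6, 5, 3, 6, 3, 1], [4, 0, 1, 5, 2, 1], [4, 1, 5, 4, 2, 0, 1], [4, 1, 5, 2, 1], [6, 3, 4, 5, 1], [1, 5, 3, 4, 2, 1], [1, 2, 0, 1, 6, 3, 1],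
  [6, 2, 0, 1, 5, 4], [2, 1, 5, 4, 5, 0, 1], [4, 3, 6, 1, 5, 4, 2, 1], [6, 4, 1, 5, 4, 2, 1], [6, 4, 5, 6, 4, 1], [4, 1, 5, 2, 1, 6, 3], [2, 1, 5, 4, 3, 2, 1], [1, 6, 2, 0, 1, 5, 4], [2, 1, 6, 3, 1, 2, 0, 1], [4, 5, 6, 1, 5, 4, 2, 1], [2, 1, 6, 3, 6, 0, 1], [1, 5, 4, 5, 1],
  [2, 0, 1, 6, 3, 2, 1], [1, 6, 2, 1, 5, 4], [4, 1, 5, 4, 3, 2, 1], [4, 2, 1, 5, 4, 2, 1], [2, 1, 6, 5, 3, 6, 0, 1], [1, 6, 3, 6, 5, 2, 1], [4, 2, 1, 5, 4, 2, 0, 1], [1, 6, 5, 3, 6, 3, 1], [1, 5, 2, 1, 6, 3], [2, 1, 5, 3, 4, 2, 1], [1, 6, 1, 5, 3, 6, 0, 1], [6, 3, 1, 6, 3, 2, 0, 1],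
  [1, 6, 5, 3, 6, 1], [1, 5, 1, 6, 4, 5, 0, 1], [5, 2, 1, 6, 4, 5, 0, 1], [3, 1, 6, 2, 1, 5, 4], [2, 1, 5, 6, 4, 5, 0, 1], [1, 6, 4, 3, 2, 1], [5, 3, 2, 1, 6, 3, 2, 1], [1, 5, 3, 1, 6, 5, 3, 1], [4, 5, 3, 1, 6, 3, 2, 1], [1, 6, 3, 6, 0, 1], [3, 4, 5, 1, 6, 3, 2, 1], [3, 6, 5, 1, 6, 3, 2, 1],
  [3, 6, 5, 1, 6, 5, 4, 1], [1, 6, 4, 5, 6, 1], [1, 6, 5, 6, 4, 1], [4, 1, 5, 4, 2, 1], [2, 1, 6, 3, 6, 1], [0, 1, 6, 3, 2, 0, 1], [0, 1, 6, 3, 2, 1], [1, 5, 6, 5, 3, 1], [6, 1, 5, 6, 4, 5, 1], [1, 6, 3, 1, 2, 0, 1], [1, 6, 5, 3, 6, 0, 1], [1, 6, 4, 5, 6, 4, 1]]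

/-- the orbit of the point 46 -/
def PA1 : List ℕ := [
  24, 29, 42, 44, 45, 46, 47, 52, 54, 55, 56, 57, 70, 72, 73, 74, 75, 77, 78, 79, 81, 82, 83, 84,
  90, 92, 93, 94, 95, 97, 98, 99, 100, 101, 102, 103, 112, 118, 119, 120, 121, 123, 124, 125, 126, 127, 129, 130,
  134, 135, 140, 142, 150, 151, 152, 153, 155, 156, 157, 158, 159, 160, 161, 162, 166, 167, 170, 172, 175, 178, 180, 181,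
  182, 183, 184, 187, 188, 189, 190, 191, 193, 194, 196, 197, 199, 200, 201, 208, 231, 232, 233, 234, 235, 236, 237, 238,
  240, 241, 242, 243, 244, 245, 246, 248, 249, 250, 254, 264, 265, 266, 267, 268, 269, 270, 271, 272, 273, 274, 275, 276,
  277, 278, 279, 280, 281, 282, 283, 284, 285, 286, 287, 288, 291, 292, 294, 295, 296, 302, 304, 308, 309, 310, 311, 312,
  317, 322, 324, 325, 326, 327, 328, 329, 348, 349, 350, 351, 352, 353, 355, 356, 357, 360, 361, 362, 363, 364, 365, 366,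
  367, 369, 370, 371, 372, 373, 374, 376, 379, 380, 384, 385, 386, 387, 388, 391, 392, 393, 394, 395, 396, 397, 398, 399,
  400, 401, 402, 403, 404, 405, 406, 407, 408, 409, 410, 411, 413, 414, 415, 416, 417, 418, 419, 420, 421, 422, 423, 424,
  425, 426, 427, 428, 429, 430, 431, 432, 433, 434, 435, 436, 438, 439, 440, 441, 444, 445, 446, 447, 448, 449, 450, 451,
  455, 459, 460, 461, 462, 463, 467, 469, 470, 471, 472, 473, 477, 478, 479, 485, 487, 488, 489, 490, 492, 493, 494, 495,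
  496, 497, 498, 499, 501, 507, 508, 509, 510, 511, 512, 516, 517, 518, 519, 520, 521, 522, 523, 524, 525, 526, 527, 528,
  529, 530, 531, 532, 533, 534, 535, 536, 537, 538, 551, 552, 553, 554, 556, 557, 558, 560, 561, 562, 565, 566, 568, 569,
  570, 571, 572, 573, 574, 575, 576, 577, 578, 579, 581, 582, 583, 584, 586, 591, 592, 593, 594, 595, 596, 597, 598, 600,
  601, 602, 605, 606, 608, 610, 612, 613, 614, 615, 616, 617, 618, 619, 620, 621, 622, 623, 624, 625, 626, 627, 628, 629,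
  630, 631, 632, 633, 634, 635, 636, 637, 639, 640, 641, 644, 645, 646, 647, 648, 649, 650, 651, 652, 653, 654, 655, 657,
  658, 659, 660, 661, 663, 664, 667, 668, 669, 670, 671, 672, 673, 674, 677, 678, 679, 680, 681, 682, 683, 684, 685, 686,
  687, 688, 689, 690, 691, 692, 693, 694, 695, 697, 698, 699, 700, 701, 702, 704, 705, 707, 708, 709, 713, 714, 715, 716,
  723, 724, 725, 726, 727, 728, 729, 730, 732, 733, 734, 744, 745, 746, 752, 754, 755, 756, 758, 759, 760, 761, 762, 763,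
  764, 766, 768, 769, 770, 771, 772, 774, 775, 776, 777, 778, 779, 780, 781, 782, 784, 787, 788, 789, 790, 799, 803, 804,
  805, 807, 808, 809, 810, 811, 812, 813, 815, 819, 820, 821, 822, 823, 824, 825, 826, 827, 828, 829, 831, 833, 834, 835,
  836, 837, 839, 841, 842, 843, 844, 845, 847, 848, 849, 850, 851, 856, 857, 858, 859, 861, 864, 865, 867, 868, 872, 873,
  874, 875, 876, 878, 879, 881, 882, 883, 884, 886, 887, 888, 891, 892, 894, 899, 900, 901, 902, 904, 906, 908, 909, 910,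
  911, 912, 913, 914, 915, 916, 918, 919, 920, 921, 922, 923, 924, 925, 927, 931, 932, 933, 935, 941, 942, 943, 944, 945,
  946, 947, 948, 949, 950, 951, 954, 955, 959, 960, 961, 963, 965, 966, 967, 968, 970, 972, 974, 975, 976, 977, 978, 979,
  980, 981, 983, 984, 985, 986, 987, 988, 989, 990, 991, 992, 993, 998, 999, 1000, 1001, 1002, 1004, 1008, 1009, 1016, 1017, 1018,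
  1019, 1020, 1021, 1022, 1023, 1025, 1026, 1027, 1030, 1031, 1033, 1038, 1039, 1040, 1041, 1042, 1043, 1044, 1046, 1047, 1048, 1050, 1057, 1058,
  1059, 1060, 1061, 1062, 1063, 1064, 1066, 1067, 1068, 1069, 1071, 1072, 1073, 1074, 1075, 1076, 1077, 1079, 1081, 1082, 1083, 1085, 1086, 1087,
  1088, 1089, 1093, 1094, 1095, 1096, 1099, 1100, 1101, 1102, 1108, 1109, 1110, 1111, 1112, 1113, 1114, 1115, 1117, 1118, 1119, 1120, 1121, 1129,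
  1132, 1133, 1141, 1145, 1146, 1147, 1149, 1150, 1151, 1152, 1153, 1154, 1155, 1156, 1157, 1158, 1159, 1160, 1161, 1162, 1163, 1164, 1165, 1166,
  1167, 1168, 1169, 1170, 1171, 1178, 1180, 1181, 1183, 1184, 1185, 1186, 1187, 1188, 1189, 1190, 1191, 1192, 1198, 1203, 1208, 1209, 1210, 1211,
  1213, 1217, 1218, 1219, 1220, 1223, 1224, 1227, 1228, 1229, 1230, 1231, 1233, 1234, 1235, 1236, 1237, 1238, 1239, 1240, 1241, 1242, 1243, 1244,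
  1245, 1246, 1247, 1248, 1249, 1250, 1251, 1252, 1253, 1254, 1255, 1256, 1257, 1258, 1259, 1260, 1261, 1262, 1263, 1264, 1265, 1266, 1267, 1268,
  1271, 1272, 1273, 1277, 1281, 1282, 1287, 1288, 1292, 1293, 1294, 1299, 1300, 1301, 1302, 1306, 1308, 1311, 1314, 1315, 1316, 1320, 1321, 1322,
  1324, 1329, 1330, 1331, 1332, 1333, 1334, 1335, 1337, 1339, 1340, 1341, 1343, 1345, 1346, 1347, 1350, 1351, 1353, 1354, 1355, 1356, 1358, 1359,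
  1361, 1363, 1366, 1368, 1369, 1370, 1371, 1375, 1376, 1377, 1378, 1379, 1380, 1386, 1387, 1388, 1389, 1390, 1392, 1393, 1394, 1395, 1397, 1398,
  1400, 1401, 1402, 1406, 1407, 1408, 1409, 1410, 1411, 1412, 1413, 1414, 1415, 1417, 1420, 1421, 1422, 1428, 1429, 1436, 1437, 1438, 1439, 1440,
  1441, 1442, 1443, 1444, 1445, 1446, 1448, 1449, 1452, 1453, 1454, 1457, 1458, 1462, 1465, 1466, 1467, 1468, 1469, 1470, 1471, 1472, 1473, 1474,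
  1475, 1477, 1478, 1479, 1480, 1487, 1488, 1489, 1490, 1491, 1492, 1493, 1495, 1496, 1497, 1498, 1499, 1501, 1502, 1503, 1505, 1506, 1507, 1508,
  1511, 1512, 1513, 1514, 1516, 1517, 1518, 1519, 1520, 1521, 1522, 1523, 1525, 1526, 1527, 1528, 1529, 1530, 1531, 1532, 1533, 1534, 1535, 1539,
  1541, 1542, 1543, 1544, 1549, 1551, 1555, 1556, 1557, 1558, 1561, 1562, 1563, 1565, 1566, 1567, 1568, 1569, 1570, 1571, 1572, 1573, 1574, 1575,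
  1576, 1577, 1578, 1579, 1580, 1581, 1582, 1583, 1584, 1585, 1591, 1592, 1595, 1596, 1597, 1598, 1599, 1600, 1601, 1602, 1603, 1604, 1605, 1606,
  1607, 1608, 1609, 1610, 1611, 1612, 1613, 1614, 1615, 1616, 1617, 1620, 1622, 1623, 1624, 1625, 1626, 1627, 1628, 1629, 1630, 1631, 1632, 1633,
  1634, 1635, 1636, 1638, 1640, 1641, 1642, 1643, 1644, 1645, 1646, 1647, 1648, 1649, 1650, 1651, 1652, 1653, 1657, 1658, 1659, 1660, 1661, 1662,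
  1663, 1664, 1665, 1666, 1667, 1668, 1669, 1670, 1671, 1672, 1673, 1674, 1675, 1677, 1678, 1679, 1680, 1681, 1682, 1683, 1684, 1685, 1686, 1687,
  1688, 1689, 1690, 1691, 1692, 1693, 1694, 1695, 1699, 1700, 1701, 1703, 1705, 1706, 1707, 1713, 1714, 1720, 1723, 1724, 1725, 1726, 1727, 1729,
  1730, 1733, 1738, 1740, 1741, 1742, 1743, 1744, 1745, 1746, 1747, 1749, 1750, 1752, 1753, 1754, 1758, 1759, 1760, 1763, 1766, 1768, 1769, 1770,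
  1771, 1772, 1774, 1776, 1777, 1778, 1783, 1784, 1785, 1786, 1787, 1788, 1789, 1790, 1792, 1794, 1795, 1796, 1797, 1798, 1799, 1804, 1808, 1809,
  1813, 1814, 1815, 1816, 1817, 1818, 1819, 1820, 1821, 1822, 1824, 1827, 1828, 1829, 1830, 1831, 1832, 1833, 1834, 1835, 1836, 1837, 1838, 1839,
  1840, 1843, 1845, 1846, 1847, 1848, 1849, 1850, 1852, 1853, 1854, 1855, 1861, 1862, 1864, 1865, 1866, 1867, 1871, 1872, 1873, 1874, 1875, 1876,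
  1877, 1878, 1879, 1880, 1883, 1885, 1886, 1887, 1888, 1889, 1890, 1891, 1892, 1893, 1894, 1895, 1896, 1897, 1898, 1900, 1901, 1902, 1903, 1904,
  1905, 1906, 1907, 1908, 1910, 1911, 1912, 1915, 1916, 1917, 1920, 1921, 1922, 1923, 1924, 1925, 1926, 1927, 1928, 1929, 1931, 1932, 1933, 1934,
  1935, 1936, 1937, 1938, 1939, 1940, 1941, 1942, 1943, 1944, 1945, 1946, 1947, 1948, 1949, 1950, 1951, 1953, 1954, 1955, 1956, 1957, 1958, 1959,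
  1960, 1961, 1965, 1966, 1967, 1968, 1970, 1971, 1974, 1975, 1976, 1977, 1978, 1979, 1981, 1982, 1986, 1987, 1988, 1991, 1994, 1995, 1996, 1997,
  1998, 2001, 2002, 2003, 2004, 2005, 2006, 2009, 2010, 2011, 2012, 2013, 2014, 2015, 2016, 2017, 2018, 2019, 2020, 2021, 2023, 2024, 2025, 2026,
  2027, 2028, 2029, 2030, 2031, 2034, 2037, 2038, 2039, 2040, 2041, 2042, 2043, 2044, 2047, 2048, 2049, 2050, 2051, 2052, 2053, 2054, 2055, 2057]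

/-- witness words for the orbit of the point 18 under the stabilizer of 46 -/
def LB1 : List (List ℕ) := [
  [], [2], [0], [2, 0], [5, 3], [5, 3, 0], [5, 3, 6, 4, 0], [5, 3, 2], [6, 4, 5, 3], [5, 3, 6, 4], [5, 3, 2, 0], [6, 4, 5, 3, 0],
  [6, 4], [6, 4, 0], [6, 4, 2], [6, 4, 2, 0]]

/-- the orbit of the point 18 under the stabilizer of 46 -/
def PB1 : List ℕ := [
  18, 28, 33, 51, 442, 642, 712, 719, 720, 1007, 1012, 1013, 1537, 1538, 1801, 1869]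

set_option maxRecDepth 100000 in
theorem LA1_chk : LA1.all (fun w => w.all (fun x => Nat.blt x 7)) = true := by decide +kernel

theorem LA1_lt : ∀ w ∈ LA1, ∀ x ∈ w, x < 7 := by
  intro w hw x hx
  have := List.all_eq_true.mp (List.all_eq_true.mp LA1_chk w hw) x hx
  rwa [Nat.blt_eq] at this
theorem LB1_lt : ∀ w ∈ LB1, ∀ x ∈ w, x < 7 := by decide

set_option maxRecDepth 100000 in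
theorem chkA1 : LA1.map (fun w => wordL (expand w) 46) = PA1 := by decide +kernel

set_option maxRecDepth 100000 in
theorem chkB1 : LB1.map (fun w => wordL (expand w) 18) = PB1 := by decide +kernel

set_option maxRecDepth 100000 in
theorem chkB1fix : LB1.all (fun w => Nat.beq (wordL (expand w) 46) 46) = true := by decide +kernel

set_option maxRecDepth 100000 in
theorem PA1_inc : incB 0 PA1 = true := by decide +kernel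

set_option maxRecDepth 100000 in
theorem PB1_inc : incB 0 PB1 = true := by decide +kernel

set_option maxRecDepth 100000 in
theorem PA1_len : PA1.length = 1344 := by decide +kernel
theorem PB1_len : PB1.length = 16 := by decide

theorem card_of_inc (l : List ℕ) (h : incB 0 l = true) : l.toFinset.card = l.length :=
  List.toFinset_card_of_nodup (((incB_spec l 0 h).2).imp (fun h => Nat.ne_of_lt h))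

/-- the presented group embeds into the Held group -/
theorem psi1_injective : Function.Injective psi1 := by
  letI : MulAction PG ℕ := MulAction.compHom ℕ (phi.comp psi1)
  have hsm : ∀ (g : PG) (i : ℕ), g • i = phi (psi1 g) i := fun _ _ => rfl
  have := card_PG_le.1
  have key := chain_eq_and_faithful (G := PG) (46 : ℕ) 18 0 PA1.toFinset PB1.toFinset {0}
    (by
      intro x hx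
      rw [List.mem_toFinset, ← chkA1, List.mem_map] at hx
      obtain ⟨w, hw, rfl⟩ := hx
      exact ⟨evP w, by rw [hsm, phi_psi1_evP w (LA1_lt w hw) 46 (by norm_num)]⟩)
    (by
      intro x hx
      rw [List.mem_toFinset, ← chkB1, List.mem_map] at hx
      obtain ⟨w, hw, rfl⟩ := hx
      refine ⟨evP w, ?_, ?_⟩
      · rw [hsm, phi_psi1_evP w (LB1_lt w hw) 46 (by norm_num)]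
        exact Nat.eq_of_beq_eq_true (List.all_eq_true.mp chkB1fix w hw)
      · rw [hsm, phi_psi1_evP w (LB1_lt w hw) 18 (by norm_num)])
    (by
      intro x hx
      rw [Finset.mem_singleton] at hx
      subst hx
      exact ⟨1, one_smul _ _, one_smul _ _, one_smul _ _⟩)
    (by
      rw [card_of_inc _ PA1_inc, card_of_inc _ PB1_inc, PA1_len, PB1_len, Finset.card_singleton]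
      exact card_PG_le.2)
  rw [← MonoidHom.ker_eq_bot_iff, Subgroup.eq_bot_iff_forall]
  intro g hg
  have h1 : psi1 g = 1 := hg
  exact key.2 g (by rw [hsm, h1, map_one]; rfl) (by rw [hsm, h1, map_one]; rfl)
    (by rw [hsm, h1, map_one]; rfl)

end Cfsg.Agent.Lib.Helper92.HC
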